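import Cfsg.Agent.Hig.Search

/-! A verified branch and bound for the degree equation of the case `3² : D₈`. -/

set_option autoImplicit false

namespace Cfsg.Agent.Hig.BB

def F : ℤ := 1000000000

def Q : ℤ := 1000000

def In (x l h : ℤ) : Prop := (l ≤ x ∨ l = -F) ∧ (x ≤ h ∨ h = F)

def tl (r l : ℤ) : ℤ := if l = -F then l else if l + (r - l) % 9 = 1 then 10 else l + (r - l) % 9

def th (r h : ℤ) : ℤ := if h = F then h else if h - (h - r) % 9 = 1 then -8 else h - (h - r) % 9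

def nl (x y z : ℤ) : ℤ := if x = F ∨ y = F ∨ z = F then -F else -(x + y + z)

def nh (x y z : ℤ) : ℤ := if x = -F ∨ y = -F ∨ z = -F then F else -(x + y + z)

def rl (l h : ℤ) : ℤ := if 0 < l then (if h = F then 0 else Q / h) else
  if h < 0 then -(Q / -h) - 1 else -Q

def rh (l h : ℤ) : ℤ := if 0 < l then Q / l + 1 else
  if h < 0 then (if l = -F then 0 else -(Q / -l)) else Q

def am (l h : ℤ) : ℤ := if 0 < l then l * l else if h < 0 then h * h else 0

theorem In.tight {x l h r : ℤ} (H : In x l h) (h1 : x % 9 = r) (h2 : x ≠ 1) :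
    In x (tl r l) (th r h) := by
  unfold In tl th F at *
  split_ifs <;> omega

theorem In.neg {x y z l h l' h' l'' h'' a b : ℤ} (H : In x l h) (H' : In y l' h')
    (H'' : In z l'' h'') (H0 : In (-(x + y + z)) a b) :
    In (-(x + y + z)) (max a (nl h h' h'')) (min b (nh l l' l'')) := by
  unfold In nl nh F at *
  split_ifs <;> omega

theorem fl {x y : ℤ} (hx : 0 < x) (h : x ≤ y) : ((Q / y : ℤ) : ℚ) ≤ Q / x := by
  have h1 : Q / y * y ≤ Q := Int.ediv_mul_le Q (by omega)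
  have h2 : 0 ≤ Q / y := Int.ediv_nonneg (by decide) (by omega)
  rw [le_div_iff₀ (by exact_mod_cast hx)]
  exact_mod_cast (mul_le_mul_of_nonneg_left h h2).trans h1

theorem cl {x y : ℤ} (hy : 0 < y) (h : y ≤ x) : (Q : ℚ) / x ≤ (Q / y + 1 : ℤ) := by
  have h1 : Q < (Q / y + 1) * y := Int.lt_ediv_add_one_mul_self Q hy
  have h2 : 0 ≤ Q / y := Int.ediv_nonneg (by decide) (by omega)
  rw [div_le_iff₀ (by exact_mod_cast hy.trans_le h)]
  exact_mod_cast h1.le.trans (mul_le_mul_of_nonneg_left h (by omega))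

theorem tr (x : ℤ) : -(Q : ℚ) ≤ Q / x ∧ (Q : ℚ) / x ≤ Q := by
  rw [← abs_le, abs_div]
  rcases eq_or_ne x 0 with rfl | h
  · simp [Q]
  · rw [abs_of_nonneg (by simp [Q])]
    exact div_le_self (by simp [Q]) (by exact_mod_cast Int.one_le_abs h)

theorem In.rec' {x l h : ℤ} (H : In x l h) :
    (rl l h : ℚ) ≤ Q / x ∧ (Q : ℚ) / x ≤ rh l h ∧ am l h ≤ x * x := by
  have q : (0 : ℚ) ≤ Q := by simp [Q]
  unfold In F at H
  unfold rl rh am F
  by_cases h1 : 0 < l
  · have h2 : l ≤ x := by omega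
    simp only [h1, if_true]
    refine ⟨?_, cl h1 h2, by nlinarith⟩
    split_ifs with h3
    · simpa using div_nonneg q (show (0 : ℚ) ≤ x by exact_mod_cast (by omega))
    · exact fl (by omega) (by omega)
  · by_cases h2 : h < 0
    · have h3 : x ≤ h := by omega
      have e : (Q : ℚ) / x = -(Q / (-x : ℤ)) := by push_cast; rw [div_neg, neg_neg]
      simp only [h1, h2, if_true, if_false, e]
      refine ⟨?_, ?_, by nlinarith⟩
      · have := cl (x := -x) (y := -h) (by omega) (by omega)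
        push_cast at this ⊢; linarith
      · split_ifs with h4
        · simpa using div_nonneg q (show (0 : ℚ) ≤ (-x : ℤ) by exact_mod_cast (by omega))
        · have := fl (x := -x) (y := -l) (by omega) (by omega)
          push_cast at this ⊢; linarith
    · simp only [h1, h2, if_false]
      exact ⟨by simpa using (tr x).1, (tr x).2, mul_self_nonneg x⟩

def prop : List ℤ → List ℤ
  | [e, e', f, f', d, d', a, a', b, b'] => [tl 1 e, th 1 e', tl 1 f, th 1 f', tl 2 d, th 2 d',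
      tl 5 (max a (nl 1 e' d')), th 5 (min a' (nh 1 e d)), tl 5 (max b (nl e' f' d')),
      th 5 (min b' (nh e f d))]
  | _ => []

def emp (l h : ℤ) : Bool := decide (h < l ∧ l ≠ -F ∧ h ≠ F)

def dead : List ℤ → Bool
  | [e, e', f, f', d, d', a, a', b, b'] => emp e e' || emp f f' || emp d d' || emp a a' ||
      emp b b' || decide (Q + 2 * rh e e' + rh f f' + 8 * rh d d' - 2 * rl a a' - 2 * rl b b' ≤ 0) ||
      decide (Q + 2 * rh e e' + rh f f' + 8 * rh d d' + 7 * rh a a' + 7 * rh b b' < 0) ||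
      decide (648 * Q < (Q + 2 * rl e e' + rl f f' + 8 * rl d d' - 2 * rh a a' - 2 * rh b b') *
        (1 + 2 * am e e' + am f f' + am d d' + 2 * am a a' + 2 * am b b'))
  | _ => false

def num (e f d a b : ℤ) : ℤ := e * f * d * a * b + 2 * f * d * a * b + e * d * a * b +
  8 * e * f * a * b - 2 * e * f * d * b - 2 * e * f * d * a

def leaf : List ℤ → Bool
  | [e, e', f, f', d, d', _, _, _, _] => decide (e = e' ∧ f = f' ∧ d = d' ∧ e ≠ -F ∧ e ≠ F ∧
      f ≠ -F ∧ f ≠ F ∧ d ≠ -F ∧ d ≠ F ∧ ((e, f, d) ∈ [(-8, 28, -25), (10, -8, -16), (10, 10, -16)] ∨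
      ¬ num e f d (-(1 + e + d)) (-(e + f + d)) ∣ 648 * (e * f * d * -(1 + e + d) * -(e + f + d))))
  | _ => false

def wd (c l h : ℤ) : ℤ := if l = h then -1 else c * (rh l h - rl l h)

def mid (l h : ℤ) : ℤ := if 0 < l then (if h = F ∨ 4 * l < h then 2 * l else (l + h) / 2) else
  if h < 0 then (if l = -F ∨ l < 4 * h then 2 * h - 1 else (l + h) / 2) else 0

def sel : List ℤ → ℕ
  | [e, e', f, f', d, d', a, a', b, b'] =>
    ([wd 2 e e', wd 1 f f', wd 8 d d', wd 2 a a', wd 2 b b'].zipIdx.foldl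
      (fun p q => if p.1 < q.1 then q else p) (-2, 0)).2
  | _ => 0

def bb : ℕ → List ℤ → Bool
  | 0, _ => false
  | n + 1, B => forceL (prop B) fun B => dead B || leaf B || force (sel B) fun k =>
      forceL [mid (B.getD (2 * k) 0) (B.getD (2 * k + 1) 0)] fun m =>
        bb n (B.set (2 * k + 1) (m.getD 0 0)) && bb n (B.set (2 * k) (m.getD 0 0 + 1))

def InB (x y z u v : ℤ) : List ℤ → Prop
  | [e, e', f, f', d, d', a, a', b, b'] => In x e e' ∧ In y f f' ∧ In z d d' ∧ In u a a' ∧ In v b b'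
  | _ => False

theorem In.split {x l h : ℤ} (H : In x l h) (m : ℤ) : In x l m ∨ In x (m + 1) h := by
  unfold In at *; omega

theorem In.emp {x l h : ℤ} (H : In x l h) : emp l h = false := by
  unfold In at H; unfold BB.emp; rw [decide_eq_false_iff_not]; omega

theorem am_nonneg (l h : ℤ) : 0 ≤ am l h := by
  unfold am; split_ifs <;> first | exact mul_self_nonneg _ | rfl

theorem pos_of {N : ℕ} {S : ℚ} (h : 648 * (Q : ℚ) = N * S) : 0 < S :=
  pos_of_mul_pos_right (by rw [← h]; simp [Q]) (Nat.cast_nonneg N)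

theorem not_lt_of {N : ℕ} {S : ℚ} (h : 648 * (Q : ℚ) = N * S) {L M : ℤ} (h1 : L ≤ S) (h2 : 0 ≤ M)
    (h3 : M ≤ N) : ¬ 648 * Q < L * M := fun c => by
  have c := (Int.cast_lt (R := ℚ)).2 c
  have h2 : (0 : ℚ) ≤ M := by exact_mod_cast h2
  have h3 : (M : ℚ) ≤ N := by exact_mod_cast h3
  have := pos_of h
  push_cast at c
  nlinarith

theorem bb_sound {e f d : ℤ} {N : ℕ} (he : e % 9 = 1) (hf : f % 9 = 1) (hd : d % 9 = 2)
    (e1 : e ≠ 1) (f1 : f ≠ 1) {a b : ℤ} (ha : a = -(1 + e + d)) (hb : b = -(e + f + d))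
    (h1 : (648 : ℚ) = N * (1 + 2 / e + 1 / f + 8 / d - 2 / a - 2 / b))
    (h2 : (0 : ℚ) ≤ 1 + 2 / e + 1 / f + 8 / d + 7 / a + 7 / b)
    (h3 : 1 + 2 * (e * e) + f * f + d * d + 2 * (a * a) + 2 * (b * b) ≤ N) :
    ∀ (n : ℕ) (B : List ℤ), bb n B = true → InB e f d a b B →
      (e, f, d) ∈ [(-8, 28, -25), (10, -8, -16), (10, 10, -16)]
  | 0, _, h, _ => by simp [bb] at h
  | n + 1, [e0, e', f0, f', d0, d', a0, a', b0, b'], h, ⟨i1, i2, i3, i4, i5⟩ => by
    have o : In 1 1 1 := ⟨.inl le_rfl, .inl le_rfl⟩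
    have j4 := (ha ▸ o.neg i1 i3 (ha ▸ i4) : In a _ _).tight (r := 5) (by omega) (by omega)
    have j5 := (hb ▸ i1.neg i2 i3 (hb ▸ i5) : In b _ _).tight (r := 5) (by omega) (by omega)
    have j1 := i1.tight he e1
    have j2 := i2.tight hf f1
    have j3 := i3.tight hd (by omega)
    rw [bb, forceL_eq, prop] at h
    generalize tl 1 e0 = e0, th 1 e' = e1', tl 1 f0 = f0, th 1 f' = f1', tl 2 d0 = d0,
      th 2 d' = d1', tl 5 (max a0 (nl 1 e' d')) = a0, th 5 (min a' (nh 1 e0 d0)) = a1',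
      tl 5 (max b0 (nl e' f' d')) = b0, th 5 (min b' (nh e0 f0 d0)) = b1' at *
    rw [Bool.or_eq_true, Bool.or_eq_true, force_eq, forceL_eq, Bool.and_eq_true] at h
    rcases h with (h | h) | h
    · exfalso
      obtain ⟨p1, q1, s1⟩ := j1.rec'
      obtain ⟨p2, q2, s2⟩ := j2.rec'
      obtain ⟨p3, q3, s3⟩ := j3.rec'
      obtain ⟨p4, q4, s4⟩ := j4.rec'
      obtain ⟨p5, q5, s5⟩ := j5.rec'
      have k1 : 648 * (Q : ℚ) = N * (Q + 2 * (Q / e) + Q / f + 8 * (Q / d) - 2 * (Q / a) -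
        2 * (Q / b)) := by rw [h1]; ring
      have k2 : (0 : ℚ) ≤ Q * (1 + 2 / e + 1 / f + 8 / d + 7 / a + 7 / b) :=
        mul_nonneg (by simp [Q]) h2
      rw [show (Q : ℚ) * (1 + 2 / e + 1 / f + 8 / d + 7 / a + 7 / b) = Q + 2 * (Q / e) + Q / f +
        8 * (Q / d) + 7 * (Q / a) + 7 * (Q / b) by ring] at k2
      simp only [dead, j1.emp, j2.emp, j3.emp, j4.emp, j5.emp, Bool.or_eq_true, decide_eq_true_eq,
        Bool.false_or] at h
      generalize (Q : ℚ) / e = x1, (Q : ℚ) / f = x2, (Q : ℚ) / d = x3, (Q : ℚ) / a = x4,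
        (Q : ℚ) / b = x5 at *
      rcases h with (h | h) | h
      · have h := (Int.cast_le (R := ℚ)).2 h
        push_cast at h
        exact (pos_of k1).not_ge (by linarith)
      · have h := (Int.cast_lt (R := ℚ)).2 h
        push_cast at h
        linarith
      · have := am_nonneg e0 e1'; have := am_nonneg f0 f1'; have := am_nonneg d0 d1'
        have := am_nonneg a0 a1'; have := am_nonneg b0 b1'
        refine not_lt_of k1 (by push_cast; linarith) (by omega) (by omega) h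
    · simp only [leaf, decide_eq_true_eq] at h
      obtain ⟨rfl, rfl, rfl, h⟩ := h
      unfold In at j1 j2 j3
      obtain rfl : e = e0 := by omega
      obtain rfl : f = f0 := by omega
      obtain rfl : d = d0 := by omega
      refine h.2.2.2.2.2.2.resolve_right fun c => c ⟨N, ?_⟩
      have : (e : ℚ) ≠ 0 := by exact_mod_cast (by omega)
      have : (f : ℚ) ≠ 0 := by exact_mod_cast (by omega)
      have : (d : ℚ) ≠ 0 := by exact_mod_cast (by omega)
      have : (a : ℚ) ≠ 0 := by exact_mod_cast (by omega)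
      have : (b : ℚ) ≠ 0 := by exact_mod_cast (by omega)
      rw [← ha, ← hb]
      apply Int.cast_injective (α := ℚ)
      unfold num
      push_cast
      rw [h1]
      field_simp
    · generalize sel _ = k, List.getD [mid _ _] 0 0 = m at h
      have r := fun B h => bb_sound he hf hd e1 f1 ha hb h1 h2 h3 n B h
      rcases k with _ | _ | _ | _ | _ | k
      · exact (j1.split m).elim (fun c => r _ h.1 ⟨c, j2, j3, j4, j5⟩) fun c => r _ h.2 ⟨c, j2, j3, j4, j5⟩
      · exact (j2.split m).elim (fun c => r _ h.1 ⟨j1, c, j3, j4, j5⟩) fun c => r _ h.2 ⟨j1, c, j3, j4, j5⟩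
      · exact (j3.split m).elim (fun c => r _ h.1 ⟨j1, j2, c, j4, j5⟩) fun c => r _ h.2 ⟨j1, j2, c, j4, j5⟩
      · exact (j4.split m).elim (fun c => r _ h.1 ⟨j1, j2, j3, c, j5⟩) fun c => r _ h.2 ⟨j1, j2, j3, c, j5⟩
      · exact (j5.split m).elim (fun c => r _ h.1 ⟨j1, j2, j3, j4, c⟩) fun c => r _ h.2 ⟨j1, j2, j3, j4, c⟩
      · exact r _ h.1 ⟨j1, j2, j3, j4, j5⟩

theorem bb_check : bb 60 [-F, F, -F, F, -F, F, -F, F, -F, F] = true := by decide +kernel

theorem arith {e f d : ℤ} {N : ℕ} (he : e % 9 = 1) (hf : f % 9 = 1) (hd : d % 9 = 2)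
    (e1 : e ≠ 1) (f1 : f ≠ 1) {a b : ℤ} (ha : a = -(1 + e + d)) (hb : b = -(e + f + d))
    (h1 : (648 : ℚ) = N * (1 + 2 / e + 1 / f + 8 / d - 2 / a - 2 / b))
    (h2 : (0 : ℚ) ≤ 1 + 2 / e + 1 / f + 8 / d + 7 / a + 7 / b)
    (h3 : 1 + 2 * (e * e) + f * f + d * d + 2 * (a * a) + 2 * (b * b) ≤ N) :
    N = 720 ∨ (7 ∣ N ∧ (a = 5 ∨ b = 5)) := by
  have o : ∀ x, In x (-F) F := fun x => ⟨.inr rfl, .inr rfl⟩
  have := bb_sound he hf hd e1 f1 ha hb h1 h2 h3 _ _ bb_check ⟨o _, o _, o _, o _, o _⟩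
  subst ha hb
  simp only [List.mem_cons, Prod.mk.injEq, List.not_mem_nil, or_false] at this
  rcases this with ⟨rfl, rfl, rfl⟩ | ⟨rfl, rfl, rfl⟩ | ⟨rfl, rfl, rfl⟩ <;> norm_num at h1 ⊢
  · have : (N : ℚ) = 201600 := by linarith
    obtain rfl : N = 201600 := by exact_mod_cast this
    norm_num
  · have : (N : ℚ) = 20160 := by linarith
    obtain rfl : N = 20160 := by exact_mod_cast this
    norm_num
  · have : (N : ℚ) = 720 := by linarith
    exact .inl (by exact_mod_cast this)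

end Cfsg.Agent.Hig.BB
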