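import Cfsg.Agent.Hig.Search
import Cfsg.Agent.Small.T333
import Cfsg.Agent.Small.BT
import Cfsg.Agent.Perm.OneBlock
import Cfsg.Agent.GW.D8Arith

/-! Characters of a group with a strongly `3`-embedded Sylow normaliser: coordinates (`coords`),
signed degrees attached to the solution of the search (`exists_degrees`), and the model `Mod` of
an elementary abelian subgroup with its automiser. -/

set_option autoImplicit false
set_option linter.unusedSectionVars false

namespace Cfsg.Agent.Hig

open Finset Subgroup Cfsg.Agent.Char Cfsg.Agent.Block Cfsg.Agent.Small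
open scoped _root_.Classical ComplexConjugate

section lin

variable {I : Type*} [Fintype I]

def wdot : List ℤ → List ℤ → List ℤ → ℤ
  | d :: ds, a :: r, b :: r' => d * a * b + wdot ds r r'
  | _, _, _ => 0

theorem sum_dot_dot : ∀ (vs : List (I → ℤ)) (r r' : List ℤ),
    vs.Pairwise (fun c c' => ∑ i, c i * c' i = 0) →
    ∑ i, dot r (ty vs i) * dot r' (ty vs i) = wdot (vs.map fun c => ∑ i, c i * c i) r r'
  | [], r, r', _ => by simp [ty, wdot]
  | _ :: _, [], r', _ => by simp [wdot]
  | _ :: _, _ :: _, [], _ => by simp [wdot]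
  | c :: vs, a :: r, b :: r', h => by
    rw [List.pairwise_cons] at h
    have k : ∀ w, ∑ i, dot w (ty vs i) * c i = 0 := fun w => by
      rw [sum_dot]
      refine dot_zero _ _ fun x hx => ?_
      obtain ⟨c', hc, rfl⟩ := List.mem_map.1 hx
      simpa only [mul_comm] using h.1 c' hc
    have := sum_dot_dot vs r r' h.2
    simp only [ty, List.map_cons, dot_cons, wdot] at this k ⊢
    rw [← this, ← add_zero (_ + _), ← add_zero (0 : ℤ), ← mul_zero a, ← k r',
      show a * ∑ i, _ + _ = a * ∑ i, dot r' (vs.map (· i)) * c i +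
        b * ∑ i, dot r (vs.map (· i)) * c i by rw [k r, k r']; simp]
    simp only [mul_sum, sum_mul, ← sum_add_distrib]
    exact sum_congr rfl fun i _ => by ring

def coords (vs : List (I → ℤ)) (M : List (List ℤ)) (m : ℤ) : List (I → ℤ) :=
  M.map fun r i => dot r (ty vs i) / m

theorem gram_coords {vs : List (I → ℤ)} {M : List (List ℤ)} {m : ℤ} {ds : List ℤ} (hm : m ≠ 0)
    (h : vs.Pairwise fun c c' => ∑ i, c i * c' i = 0) (hd : (vs.map fun c => ∑ i, c i * c i) = ds)
    (hM : ∀ r ∈ M, ∀ i, m ∣ dot r (ty vs i)) :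
    gram (coords vs M m) = M.map fun r => M.map fun r' => wdot ds r r' / (m * m) := by
  simp only [gram, coords, List.map_map]
  refine List.map_congr_left fun r hr => List.map_congr_left fun r' hr' => ?_
  rw [← hd, ← sum_dot_dot vs r r' h, eq_comm]
  refine Int.ediv_eq_of_eq_mul_right (mul_ne_zero hm hm) ?_
  simp only [Function.comp]
  rw [mul_sum]
  refine sum_congr rfl fun i _ => ?_
  rw [mul_mul_mul_comm, Int.mul_ediv_cancel' (hM r hr i), Int.mul_ediv_cancel' (hM r' hr' i)]

def vadd : List ℤ → List ℤ → List ℤ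
  | a :: u, b :: v => (a + b) :: vadd u v
  | [], v => v
  | u, [] => u

theorem dot_vadd : ∀ u v x : List ℤ, dot (vadd u v) x = dot u x + dot v x
  | [], v, x => by simp [vadd]
  | _ :: _, [], x => by simp [vadd]
  | _ :: _, _ :: _, [] => by simp
  | a :: u, b :: v, c :: x => by simp [vadd, dot_vadd u v x]; ring

theorem dot_smul' (s : ℤ) : ∀ w v : List ℤ, dot (w.map (s * ·)) v = s * dot w v
  | [], v => by simp
  | _ :: _, [] => by simp
  | a :: w, b :: v => by simp [dot_smul' s w v]; ring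

def comb : List ℤ → List (List ℤ) → List ℤ
  | a :: L, r :: M => vadd (r.map (a * ·)) (comb L M)
  | _, _ => []

theorem dot_coords {vs : List (I → ℤ)} {m : ℤ} (i : I) : ∀ (L : List ℤ) (M : List (List ℤ)),
    (∀ r ∈ M, m ∣ dot r (ty vs i)) → m * dot L (ty (coords vs M m) i) = dot (comb L M) (ty vs i)
  | [], M, _ => by simp [comb]
  | _ :: _, [], _ => by simp [comb, coords, ty]
  | a :: L, r :: M, h => by
    have := dot_coords i L M fun r' hr => h r' (List.mem_cons_of_mem _ hr)
    rw [comb, dot_vadd, dot_smul', ← this, ← Int.mul_ediv_cancel' (h r List.mem_cons_self)]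
    simp only [coords, ty, List.map_cons, dot_cons]
    ring

theorem dot_coords' {vs : List (I → ℤ)} {m : ℤ} (hm : m ≠ 0) {M : List (List ℤ)} {L w : List ℤ}
    (h : ∀ r ∈ M, ∀ i, m ∣ dot r (ty vs i)) (e : comb L M = w.map (m * ·)) (i : I) :
    dot L (ty (coords vs M m) i) = dot w (ty vs i) :=
  mul_left_cancel₀ hm (by rw [dot_coords i L M fun r hr => h r hr i, e, dot_smul'])

theorem coords_zero {vs : List (I → ℤ)} {M : List (List ℤ)} {m : ℤ} {i : I}
    (h : ∀ v ∈ vs, v i = 0) : ∀ x ∈ ty (coords vs M m) i, x = 0 := by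
  simp only [ty, coords, List.map_map, List.mem_map]
  rintro _ ⟨r, -, rfl⟩
  simp only [Function.comp]
  rw [dot_zero _ _ (by simpa using h)]
  simp

theorem ty_coords {vs : List (I → ℤ)} {M : List (List ℤ)} {m : ℤ} {i : I} :
    ty (coords vs M m) i = M.map fun r => dot r (ty vs i) / m := by
  simp [ty, coords]

end lin

variable {G : Type*} [Group G] [Finite G]

/-- The signed degrees. -/
theorem exists_degrees (cs : List (IrrCharacter G → ℤ)) {Gm : List (List ℤ)} {t : List ℤ} {B : ℕ}
    {xs : List ℤ} {lvs : List (List (List ℤ) × List (List ℤ) × List ℤ)} {fs : List (ℕ × List ℤ)}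
    {ps : List ℕ} {Ls : List ℤ → Bool} {sols : List (List (List ℤ))}
    (h : check Gm t B xs lvs fs ps Ls sols = true) (hG : gram cs = Gm) (ht : ty cs (irrOne G) = t)
    (hL : ∀ i, (∀ x ∈ ty cs i, x = 0) ∨ ∀ s : ℤ, s = 1 ∨ s = -1 →
      Ls ((ty cs i).map (s * ·)) = true) :
    ∃ sol ∈ sols, ∃ (X : ℕ → IrrCharacter G) (s d : ℕ → ℤ), (∀ i, s i = 1 ∨ s i = -1) ∧
      (∀ i, d i = s i * charDegree (X i).1) ∧ (∀ i, d i ≠ 0) ∧
      (∀ i < sol.length, X i ≠ irrOne G ∧ (ty cs (X i)).map (s i * ·) = sol.getD i []) ∧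
      (∀ χ, χ ≠ irrOne G → (∃ x ∈ ty cs χ, x ≠ 0) → ∃ i < sol.length, X i = χ) ∧
      1 + ∑ i ∈ range sol.length, d i ^ 2 ≤ Nat.card G ∧
      (∀ (g : G) (L : List ℤ), g ≠ 1 → (∀ χ : IrrCharacter G, χ.1 g = dot L (ty cs χ)) →
        dot L t + ∑ i ∈ range sol.length, d i * dot L (sol.getD i []) = 0) ∧
      ∀ (a b c : G) (La Lb Lc : List ℤ), (∀ χ : IrrCharacter G, χ.1 a = dot La (ty cs χ)) →
        (∀ χ : IrrCharacter G, χ.1 b = dot Lb (ty cs χ)) →
        (∀ χ : IrrCharacter G, χ.1 c = dot Lc (ty cs χ)) →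
        (Nat.card {x : G × G // x.1 * a * x.1⁻¹ * (x.2 * b * x.2⁻¹) = c} : ℚ) =
          Nat.card G * ((dot La t * dot Lb t * dot Lc t : ℤ) + ∑ i ∈ range sol.length,
            ((dot La (sol.getD i []) * dot Lb (sol.getD i []) * dot Lc (sol.getD i []) : ℤ) : ℚ) /
              d i) := by
  obtain ⟨sol, hsol, s, l, hs, hn, hl, e⟩ := classify cs (irrOne G) h hG ht hL
  refine ⟨sol, hsol, ?_⟩
  subst e ht
  have hX : ∀ i < l.length, l.getD i (irrOne G) ∈ l := fun i hi => by simp [hi]
  have hT : ∀ i < l.length, (ty cs (l.getD i (irrOne G))).map (s (l.getD i (irrOne G)) * ·) =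
      (l.map fun i => (ty cs i).map (s i * ·)).getD i [] := fun i hi => by simp [hi]
  have sl : ∀ {R : Type} [AddCommMonoid R] (F : IrrCharacter G → R),
      ∑ i ∈ range l.length, F (l.getD i (irrOne G)) = ∑ χ ∈ l.toFinset, F χ := fun F => by
    rw [List.sum_toFinset _ hn, ← Fin.sum_univ_fun_getElem, ← Fin.sum_univ_eq_sum_range
      (fun i => F (l.getD i (irrOne G)))]
    exact sum_congr rfl fun i _ => by simp
  have sp : ∀ {R : Type} [AddCommMonoid R] (F : IrrCharacter G → R),
      (∀ χ, (∀ x ∈ ty cs χ, x = 0) → χ ≠ irrOne G → F χ = 0) →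
      ∑ χ, F χ = F (irrOne G) + ∑ i ∈ range l.length, F (l.getD i (irrOne G)) := fun F hF => by
    rw [sl, ← add_sum_erase _ _ (mem_univ (irrOne G))]
    congr 1
    refine (sum_subset (fun χ hχ => ?_) fun χ h1 h2 => hF χ ?_ (ne_of_mem_erase h1)).symm
    · simpa using ((hl χ).1 (by simpa using hχ)).1
    · by_contra c
      push Not at c
      exact h2 (List.mem_toFinset.2 ((hl χ).2 ⟨ne_of_mem_erase h1, c⟩))
  have dp : ∀ χ : IrrCharacter G, 0 < charDegree χ.1 := fun χ => χ.2.charDegree_pos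
  refine ⟨fun i => l.getD i (irrOne G), fun i => s (l.getD i (irrOne G)),
    fun i => s (l.getD i (irrOne G)) * charDegree (l.getD i (irrOne G)).1, fun i => hs _,
    fun i => rfl, fun i => mul_ne_zero (by rcases hs (l.getD i (irrOne G)) with e | e <;> omega)
      (by exact_mod_cast (dp _).ne'), fun i hi => ?_, fun χ h1 h2 => ?_, ?_, fun g L hg hv => ?_,
    fun a b c La Lb Lc ha hb hc => ?_⟩
  · rw [List.length_map] at hi
    exact ⟨((hl _).1 (hX i hi)).1, hT i hi⟩
  · obtain ⟨i, hi, e⟩ := List.getElem_of_mem ((hl χ).2 ⟨h1, h2⟩)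
    exact ⟨i, by simpa using hi, by simp [hi, e]⟩
  · rw [List.length_map, sl fun χ => (s χ * charDegree χ.1) ^ 2, ← sum_charDegree_sq,
      ← add_sum_erase _ _ (mem_univ (irrOne G)), charDegree_irrOne]
    push_cast
    rw [sum_congr rfl (g := fun χ => (charDegree χ.1 : ℤ) ^ 2) fun χ _ => by
      rcases hs χ with e | e <;> simp [e]]
    exact add_le_add_right (sum_le_sum_of_subset_of_nonneg (fun χ hχ => by
      simpa using ((hl χ).1 (by simpa using hχ)).1) fun _ _ _ => sq_nonneg _) _
  · have h2 := sum_irr_degree_mul hg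
    simp only [hv, IsIrrCharacter.apply_one_eq_charDegree (Subtype.prop _)] at h2
    norm_cast at h2
    rw [sp _ fun χ h0 _ => by rw [dot_zero _ _ h0, mul_zero], charDegree_irrOne] at h2
    rw [List.length_map, ← h2, sum_congr rfl fun i hi => by
      rw [← hT i (mem_range.1 hi), dot_smul]]
    congr 1
    · simp
    · exact sum_congr rfl fun i _ => by
        rcases hs (l.getD i (irrOne G)) with e | e <;> simp only [e] <;> ring
  · have := Fintype.ofFinite G
    have h2 := card_mul_conj_pairs a b c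
    simp only [ha, hb, hc, IsIrrCharacter.apply_one_eq_charDegree (Subtype.prop _),
      map_intCast] at h2
    rw [sp _ fun χ h0 _ => by rw [dot_zero _ _ h0]; simp, charDegree_irrOne] at h2
    apply Rat.cast_injective (α := ℂ)
    rw [List.length_map, sum_congr rfl fun i hi => by
      rw [← hT i (mem_range.1 hi), dot_smul, dot_smul, dot_smul]]
    push_cast at h2 ⊢
    rw [h2, div_one]
    congr 2
    refine sum_congr rfl fun i _ => ?_
    rcases hs (l.getD i (irrOne G)) with e | e <;> rw [e] <;> simp [div_neg, neg_div]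

theorem dichotomy {p : ℕ} [hp : Fact p.Prime] {S : Sylow p G} (h : SEp S)
    (hC : centralizer ((S : Subgroup G) : Set G) ≤ S) (χ : IrrCharacter G) :
    (∀ g, p ∣ orderOf g → χ.1 g = 0) ∨ ∀ u ∈ (S : Subgroup G), χ.1 u ≠ 0 := by
  obtain ⟨M, hM⟩ := exists_pmod p
  refine (OneBlock.mem_principal_or_defect_zero hM.out (fun z hz => ?_) χ).symm.imp
    (fun h0 g hg => apply_eq_zero_of_defect_zero h0 hg M) fun h0 u hu =>
      apply_ne_zero_of_principal h0 fun hd => S.not_dvd_index (hd.trans (index_dvd_of_le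
        fun v hv => mem_centralizer_singleton_iff.2 (h.comm v hv u hu)))
  obtain ⟨Q, hQ⟩ := (isPGroup_zpowers_of_orderOf hz).exists_le_sylow
  obtain ⟨g, rfl⟩ := MulAction.exists_smul_eq G S Q
  have m : ∀ x, x ∈ ((g • S : Sylow p G) : Subgroup G) ↔ g⁻¹ * x * g ∈ (S : Subgroup G) :=
    fun x => Solv.mem_conj_smul
  have hz' := (m z).1 (hQ (mem_zpowers z))
  have z1 : g⁻¹ * z * g ≠ 1 := fun e => by
    rw [show z = 1 by simpa [mul_assoc, inv_mul_eq_one] using e, orderOf_one] at hz
    exact hp.out.one_lt.ne hz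
  refine ⟨_, (g • S).isPGroup', fun x hx => mem_centralizer_singleton_iff.2 ?_, fun x hx => ?_,
    fun x hx _ hp' => ?_⟩
  · have := h.comm _ ((m x).1 hx) _ hz'
    simpa [← mul_assoc] using (show x * (z * g) = z * (x * g) by simpa [mul_assoc] using this)
  · have := h.cent _ hz' z1 (show g⁻¹ * x * g ∈ _ from mem_centralizer_singleton_iff.2 (by
      have := mem_centralizer_singleton_iff.1 hx
      calc g⁻¹ * x * g * (g⁻¹ * z * g) = g⁻¹ * (x * z) * g := by group
        _ = _ := by rw [this]; group))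
    refine mem_normalizer_iff.2 fun y => ?_
    rw [m, m, mem_normalizer_iff.1 this]
    simp [mul_assoc]
  · have : x ∈ ((g • S : Sylow p G) : Subgroup G) := (m x).2 (hC fun y hy => by
      have := hx (g * y * g⁻¹) ((m _).2 (by
        rwa [show g⁻¹ * (g * y * g⁻¹) * g = y by group]))
      calc y * (g⁻¹ * x * g) = g⁻¹ * (g * y * g⁻¹ * x) * g := by group
        _ = _ := by rw [this]; group)
    obtain ⟨k, hk⟩ := IsPGroup.iff_orderOf.1 (g • S).isPGroup' ⟨x, this⟩
    rw [← Subgroup.orderOf_coe] at hk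
    cases k with
    | zero => simpa using hk
    | succ k => exact absurd (hk ▸ dvd_pow_self p k.succ_ne_zero) hp'

end Cfsg.Agent.Hig
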