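import Cfsg.Agent.Hig.Rel
import Cfsg.Agent.Hig.BB
import Cfsg.Agent.S0496

/-! The case `3² : D₈` does not occur in a simple group. -/

set_option autoImplicit false
set_option linter.unusedSectionVars false

namespace Cfsg.Agent.Hig

open Finset Subgroup Cfsg.Agent.Char Cfsg.Agent.Block Cfsg.Agent.Small
open scoped ComplexConjugate

variable {G : Type*} [Group G] [Finite G]

def d8G : List (List ℤ) :=
  [[4, 1, 2, 2], [1, 4, 2, 2], [2, 2, 4, 1], [2, 2, 1, 4]]

def d8V : List (List (List ℤ) × List (List ℤ) × List ℤ) :=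
  [([[8, 1, -2, -4], [1, 7, -4, -3], [-2, -4, 8, 1], [-4, -3, 1, 7]], [[4, 1, 2, 2], [1, 4, 2,
  2], [2, 2, 4, 1], [2, 2, 1, 4]], [1, 0, 1, 0]), ([[11, -6, -4], [-6, 12, 0], [-4, 0, 8]], [[4,
  2, 2], [2, 4, 1], [2, 1, 4]], [0, 1, 0]), ([[4, -1], [-1, 3]], [[4, 1], [1, 4]], [1, 0]),
  ([[1]], [[4]], [0])]

def d8F : List (ℕ × List ℤ) :=
  [(2, [0, 0, 0, 1]), (3, [0, 0, 1]), (5, [0, 1, -1]), (7, [0, 1, 0, -1]), (11, [0, 1]), (13, [1,
  0, -1]), (17, [1, 0, 0, -1]), (19, [1]), (23, [1, 1, -1, -1]), (29, [0, 0, 1, -1]), (31, [0, 1,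
  -1, -1]), (37, [1, -1]), (41, [1, 0, -1, -1]), (43, [1, 1, -1]), (47, [1, 1, 0, -1])]

def d8L : List (List ℤ) := [[-1, -1, 2, 2], [2, 2, -1, -1]]

def d8S : List (List ℤ) := [[1, 0, 0, 0], [0, 1, 0, 0], [0, 0, 1, 0], [0, 0, 0, 1], [1, 0, 0, 1],
  [0, 1, 1, 0], [0, 1, 0, 1], [1, 1, 1, 1]]

def d8M : List (List ℤ) := [[1, 2, 3, 0], [1, 2, -3, 0], [2, 1, 0, 3], [2, 1, 0, -3]]

theorem d8_check : check d8G [1, 0, 1, 0] 2 [-2, -1, 0, 1, 2] d8V d8F
    [2, 3, 5, 7, 11, 13, 17, 19, 23, 29] (nz d8L) [d8S] = true := by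
  decide +kernel

def E8 : Finset (K2 × K2) := {((1, 0), (0, 1)), ((1, 0), (0, -1)), ((-1, 0), (0, 1)),
  ((-1, 0), (0, -1)), ((0, 1), (1, 0)), ((0, 1), (-1, 0)), ((0, -1), (1, 0)), ((0, -1), (-1, 0))}

def rp8 (x : K2) : K2 := if x = 0 then 0 else if x.1 * x.2 = 0 then (1, 0) else (1, 1)

theorem not_five [IsSimpleGroup G] {χ : IrrCharacter G} (h1 : χ ≠ irrOne G)
    (h5 : charDegree χ.1 = 5) (hg : ∀ σ : ℂ →+* ℂ, galIrr σ χ = χ) : ¬ 7 ∣ Nat.card G := fun h => by
  have := Fact.mk (by norm_num : Nat.Prime 7)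
  obtain ⟨g, g7⟩ := exists_prime_orderOf_dvd_card' 7 h
  have d : χ.1 1 = (5 : ℤ) := by rw [χ.2.apply_one_eq_charDegree, h5]; simp
  have := fx_const χ.2.isCharacter (H := zpowers g) (a := -2) fun u hu u1 => by
    obtain ⟨n, hn⟩ := exists_int_of_fixed (χ.2.isCharacter.isIntegral u) fun σ => by
      simpa using congrArg (fun ψ : IrrCharacter G => ψ.1 u) (hg σ)
    have u7 : orderOf u = 7 := ((Nat.dvd_prime (by norm_num)).1
      (g7 ▸ orderOf_dvd_of_mem_zpowers hu)).resolve_left (by simpa using u1)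
    have a1 := dvd_sub_of_mul χ.2.isCharacter (r := 7) (by norm_num) (u := u) (g := 1)
      ⟨1, by simp [u7]⟩ (Commute.one_right _) (by rw [mul_one, hn]) d
    have a2 := natAbs_le_of_apply χ.2.isCharacter hn
    have a3 : n ≠ 5 := fun c => u1 (eq_one_of_apply h1 (by rw [hn, d, c]))
    rw [hn, show n = -2 by omega]; simp
  rw [d, Nat.card_zpowers, g7] at this
  have : (-1 : ℂ) = fx χ.1 (zpowers g) := by push_cast at this; linear_combination this / 7
  norm_cast at this

set_option synthInstance.maxSize 2000 in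
theorem d8_false [IsSimpleGroup G] {φ : K2 → G} (h : SMod eM E8 φ) : False := by
  have h18 : 18 ∣ Nat.card G := by
    have := card_subgroup_dvd_card (centralizer ({φ (1, 0)} : Set G))
    rwa [h.card_cent (by decide), show _ * #(E8.filter _) = 18 by decide] at this
  have hG : ¬ IsCyclic G := not_isCyclic_of_card fun hp => by
    rcases (Nat.dvd_prime hp).1 h18 with c | c
    · omega
    · rw [← c] at hp; norm_num at hp
  obtain ⟨w, hw⟩ := exists_omega
  obtain ⟨A, hA, cA, A1, sA, dA⟩ := h.val (1, 0) (by decide)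
  obtain ⟨B, hB, cB, B1, sB, dB⟩ := h.val (1, 1) (by decide)
  obtain ⟨u, U, hU, -, cU, U1, sU, dU⟩ := h.six (1, 0) ((1, 0), (0, -1)) (by decide) hA
  obtain ⟨w, W, hW, -, cW, W1, sW, dW⟩ := h.six (1, 1) ((0, 1), (1, 0)) (by decide) hB
  have d9 : ∀ χ : IrrCharacter G, 9 ∣ charDegree χ.1 + 4 * A χ + 4 * B χ := fun χ => by
    obtain ⟨n, hn⟩ := h.mult_tab 0 hw (rp := rp8) (by decide) (reps := [0, (1, 0), (1, 1)])
      (by decide) [(1, 0), (4, 0), (4, 0)] (by decide) χ
    simp only [List.zipWith_cons_cons, List.zipWith_nil_left, List.sum_cons, List.sum_nil,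
      hA, hB, h.zero, χ.2.apply_one_eq_charDegree, show Fintype.card K2 = 9 from rfl] at hn
    refine ⟨n, Int.cast_injective (α := ℂ) ?_⟩
    push_cast at hn ⊢
    linear_combination hn
  have hv : List.Forall₂ (Cl φ) [A, B, U, W] [((1, 0), false), ((1, 1), false), ((1, 0), true),
    ((1, 1), true)] := .cons cA (.cons cB (.cons cU (.cons cW .nil)))
  have hM : ∀ r ∈ d8M, ∀ χ, (6 : ℤ) ∣ dot r (ty [A, B, U, W] χ) := fun r hr χ => by
    have := dA χ; have := dB χ; have := dU χ; have := dW χ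
    simp only [d8M, List.mem_cons, List.not_mem_nil, or_false] at hr
    rcases hr with rfl | rfl | rfl | rfl <;> simp [ty] <;> omega
  have hd := fun L w e => dot_coords' (vs := [A, B, U, W]) (m := 6) (by decide) (L := L)
    (w := w) hM e
  have iA : ∀ χ, A χ = dot [-1, -1, 2, 2] (ty (coords [A, B, U, W] d8M 6) χ) :=
    fun χ => by rw [hd _ [1, 0, 0, 0] (by decide)]; simp [ty]
  have iB : ∀ χ, B χ = dot [2, 2, -1, -1] (ty (coords [A, B, U, W] d8M 6) χ) :=
    fun χ => by rw [hd _ [0, 1, 0, 0] (by decide)]; simp [ty]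
  have vA := fun χ => (hA χ).trans (congrArg _ (iA χ))
  have vB := fun χ => (hB χ).trans (congrArg _ (iB χ))
  have ht : ty (coords [A, B, U, W] d8M 6) (irrOne G) = [1, 0, 1, 0] := by
    rw [ty_coords]; simp only [ty, List.map_cons, List.map_nil, A1, B1, U1, W1]; decide
  obtain ⟨sol, hsol, X, s, d, hs, hd, d0, h3, h4, h5, -, h2⟩ := exists_degrees _ d8_check (by
      rw [gram_coords (ds := [18, 18, 6, 6]) (by decide) (h.pairwise hv (by decide)) (by
        simp only [List.map_cons, List.map_nil, sA, sB, sU, sW]; decide) hM]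
      decide) ht
    fun χ => (h.dich χ).imp (fun c => coords_zero (h.vanish_all hv (by decide) c))
      fun c _ => nz_of fun L hL => by
      simp only [d8L, List.mem_cons, List.not_mem_nil, or_false] at hL
      rcases hL with rfl | rfl
      · exact fun e => c _ (by rw [vA, e]; simp)
      · exact fun e => c _ (by rw [vB, e]; simp)
  obtain rfl := List.mem_singleton.1 hsol
  have hn : ∀ i < d8S.length, ∀ j < d8S.length, d8S.getD i [] = d8S.getD j [] ∨
      d8S.getD i [] = (d8S.getD j []).map (-1 * ·) → i = j := by decide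
  have r := Mod.degrees (fun v hv => by
    simp only [List.mem_cons, List.not_mem_nil, or_false] at hv
    rcases hv with rfl | rfl | rfl | rfl <;>
      exact h.deg_sum ‹_› (by decide)) (by decide) hM hn hs hd h3 h4
  rw [ht] at r
  have c9 : ∀ i < d8S.length, 9 ∣ d i + 4 * dot [-1, -1, 2, 2] (d8S.getD i []) +
      4 * dot [2, 2, -1, -1] (d8S.getD i []) := fun i hi => by
    rw [← (h3 i hi).2, dot_smul, dot_smul, ← iA, ← iB, hd]
    exact (dvd_mul_of_dvd_right (d9 (X i)) (s i)).trans (dvd_of_eq (by ring))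
  have n1 : ∀ i < d8S.length, d i ≠ 1 := fun i hi c => (h3 i hi).1
    (eq_irrOne_of_degree (commutator_eq_top_of_not_isCyclic hG) (by
      have := hd i; rcases hs i with e | e <;> rw [e] at this <;> omega))
  have n5 : ∀ i < d8S.length, d i = 5 → ¬ 7 ∣ Nat.card G := fun i hi c =>
    not_five (h3 i hi).1 (by have := hd i; rcases hs i with e | e <;> rw [e] at this <;> omega)
      fun σ => by
        have k : ∀ {g : G} {v : IrrCharacter G → ℤ}, (∀ χ : IrrCharacter G, χ.1 g = v χ) →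
            v (galIrr σ (X i)) = v (X i) := fun hv => by
          have := hv (galIrr σ (X i))
          rw [galIrr_apply, hv, map_intCast] at this
          exact_mod_cast this.symm
        have e : ty (coords [A, B, U, W] d8M 6) (galIrr σ (X i)) =
            ty (coords [A, B, U, W] d8M 6) (X i) := by
          simp only [ty_coords]
          simp only [ty, List.map_cons, k hA, k hB, k hU, k hW, List.map_nil]
        obtain ⟨j, hj, e'⟩ := h4 (galIrr σ (X i))
          (fun c => (h3 i hi).1 (galIrr_injective σ (c.trans (galIrr_irrOne σ).symm))) (by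
            by_contra! c
            have := (h3 i hi).2
            rw [e] at c
            exact (by decide : ∀ i < d8S.length, ¬ ∀ x ∈ d8S.getD i [], x = 0) i hi (by
              rw [← this]; simpa using fun x hx => .inr (c x hx)))
        rw [← e', hn i hi j hj (by
          rw [← (h3 i hi).2, ← (h3 j hj).2, e', e, List.map_map]
          rcases hs i with a | a <;> rcases hs j with b | b <;> simp [a, b, Function.comp_def])]
  have r0 := r [1]
  have r1 := r [0, 1]
  have r2 := r [0, 0, 1]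
  have r3 := r [0, 0, 0, 1]
  have c0 := c9 5 (by decide)
  have c4 := c9 4 (by decide)
  have c6 := c9 6 (by decide)
  have c7 := c9 7 (by decide)
  have t1 := h2 _ _ _ _ _ _ vA vA vB
  have t2 := h2 _ _ _ _ _ _ vB vB vA
  have t3 := (Nat.cast_nonneg _).trans (h2 _ _ _ _ _ _ vA vA vA).le
  rw [h.pairs h.tri _ _ _ (by decide), show _ * #(univ.filter _) = 648 by decide] at t1 t2
  rw [mul_nonneg_iff_of_pos_left (by exact_mod_cast Nat.card_pos)] at t3
  simp [d8S, sum_range_succ] at r0 r1 r2 r3 c0 c4 c6 c7 t1 t2 t3 h5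
  have q0 : ∀ i, (d i : ℚ) ≠ 0 := fun i => Int.cast_ne_zero.2 (d0 i)
  have g0 : (Nat.card G : ℚ) ≠ 0 := by exact_mod_cast Nat.card_pos.ne'
  have e1 : (1 : ℚ) / d 0 + 1 / d 1 = 1 / d 2 + 1 / d 3 := mul_left_cancel₀ g0 (by
    linear_combination (t2 - t1) / 6)
  have e2 : d 0 * d 1 = d 2 * d 3 := by
    have := q0 0; have := q0 1; have := q0 2; have := q0 3
    field_simp at e1
    have e3 : (d 1 + d 0) * (d 2 * d 3) = d 0 * d 1 * (d 3 + d 2) := by
      exact_mod_cast (by push_cast; linear_combination e1 : ((_ : ℤ) : ℚ) = (_ : ℤ))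
    rw [show d 3 + d 2 = d 1 + d 0 by omega, mul_comm] at e3
    exact (mul_right_cancel₀ (by omega) e3).symm
  have e3 : d 0 = d 2 := by
    have e4 : (d 0 - d 2) * (d 0 - d 3) = 0 := by
      rw [show d 3 = d 0 + d 1 - d 2 by omega] at e2 ⊢; linear_combination -e2
    have := n1 6 (by decide)
    rcases mul_eq_zero.1 e4 with c | c <;> omega
  rw [← e3, show d 3 = d 1 by omega, show d 5 = d 4 by omega] at t1 t3 h5
  rcases BB.arith (e := d 4) (f := d 6) (d := d 7) (a := d 0) (b := d 1) (N := Nat.card G)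
    (by omega) (by omega) (by omega) (n1 4 (by decide)) (n1 6 (by decide)) (by omega) (by omega)
    (by linear_combination t1) (t3.trans_eq (by ring)) ((le_of_eq (by ring)).trans h5) with
    c | ⟨c, c' | c'⟩
  · have := S0496.result (G := G) (fun c => hG (by
      by_contra c'
      obtain ⟨x, y, e⟩ := exists_not_comm c'
      exact e (c.1.1 x y))) (by omega)
    omega
  · exact n5 0 (by decide) c' c
  · exact n5 1 (by decide) c' c

set_option synthInstance.maxSize 2000 in
theorem d8_cases : ∀ i : K2 × K2, (∀ x, (eM i)^[4] x = x) →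
    (∀ x, e4 (1, -1) (eM i (e4 (1, -1) (eM i x))) = x) →
    (¬ ∀ x, eM i (e4 (1, -1) x) = e4 (1, -1) (eM i x)) → ∀ j ∈ E8, ∃ k < 4,
      (∀ x, eM j x = (eM i)^[k] x) ∨ ∀ x, eM j x = e4 (1, -1) ((eM i)^[k] x) := by decide +kernel

theorem gl_exp : ∀ i : K2 × K2, (∀ x y, eM i x = eM i y → x = y) → ∀ x, (eM i)^[24] x = x := by
  decide +kernel

theorem d8_model (T : Sylow 3 G) (hT : IsElementaryAbelian 3 (T : Subgroup G))
    (hcard : Nat.card T = 9) (hC : centralizer ((T : Subgroup G) : Set G) ≤ T)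
    (hloc : ∀ t ∈ (T : Subgroup G), t ≠ 1 →
      centralizer ({t} : Set G) ≤ normalizer ((T : Subgroup G) : Set G))
    (hN : (∀ n ∈ normalizer ((T : Subgroup G) : Set G), n ^ 72 = 1) →
      Nat.card (normalizer ((T : Subgroup G) : Set G)) = 72) {r s : G}
    (hr : r ∈ normalizer ((T : Subgroup G) : Set G)) (hs : s ∈ normalizer ((T : Subgroup G) : Set G))
    (h1 : s * s ∈ (T : Subgroup G)) (h2 : s * r * (s * r) ∈ (T : Subgroup G))
    (h3 : r ^ 4 ∈ (T : Subgroup G)) (h4 : (s * r)⁻¹ * (r * s) ∉ (T : Subgroup G)) :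
    ∃ φ : K2 → G, SMod eM E8 φ ∧ ∀ g, g ∈ (T : Subgroup G) ↔ ∃ k, φ k = g := by
  have c1 : ∀ g : G, (∀ u ∈ (T : Subgroup G), g * u * g⁻¹ = u) → g ∈ (T : Subgroup G) :=
    fun g hg => hC fun u hu => (mul_inv_eq_iff_eq_mul.1 (hg u hu)).symm
  have c0 : ∀ f : G → G, (∀ u ∈ (T : Subgroup G), s * u * s⁻¹ = f u) →
      (∀ u, f (r * u * r⁻¹) = r * f u * r⁻¹) → False := fun f a b => h4 (c1 _ fun u hu => by
    rw [show (s * r)⁻¹ * (r * s) * u * ((s * r)⁻¹ * (r * s))⁻¹ =
      (s * r)⁻¹ * (r * (s * u * s⁻¹) * r⁻¹) * (s * r) by group, a u hu, ← b,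
      ← a _ ((mem_normalizer_iff.1 hr u).1 hu)]
    group)
  obtain ⟨φ, add, inj, mem, hσ⟩ := exists_coord hT hcard hs h1
    (by by_contra! c; exact c0 id c fun _ => rfl)
    (by by_contra! c; exact c0 (·⁻¹) c fun _ => by group)
  have c3 : ∀ g ∈ (T : Subgroup G), ∀ x, g * φ x * g⁻¹ = φ x := fun g hg x => by
    obtain ⟨y, rfl⟩ := (mem g).1 hg
    rw [← add, add_comm, add, mul_inv_cancel_right]
  have it' : ∀ {r i}, (∀ x, r * φ x * r⁻¹ = φ (eM i x)) →
      ∀ k x, r ^ k * φ x * (r ^ k)⁻¹ = φ ((eM i)^[k] x) := fun {r i} hi k => by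
    induction k with
    | zero => simp
    | succ k ih => intro x; rw [Function.iterate_succ_apply', ← hi, ← ih]; group
  have hN := hN fun n hn => by
    obtain ⟨i, hi⟩ := exists_lin add mem hn
    refine (pow_mul n 24 3).trans (hT.2 _ (c1 _ fun u hu => ?_))
    obtain ⟨x, rfl⟩ := (mem u).1 hu
    rw [it' hi, gl_exp i fun x y c => inj (by
      have := (hi x).trans ((congrArg φ c).trans (hi y).symm)
      simpa using this)]
  obtain ⟨i, hi⟩ := exists_lin add mem hr
  have it := it' hi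
  refine ⟨φ, .of_card hC hloc add inj (by decide) mem (hN.trans (by decide)) (fun j hj => ?_)
    (by decide), mem⟩
  obtain ⟨k, -, c | c⟩ := d8_cases i (fun x => inj (by rw [← it, c3 _ h3]))
    (fun x => inj (by rw [← hσ, ← hi, ← hσ, ← hi]; exact .trans (by group) (c3 _ h2 x)))
    (fun c => h4 (c1 _ fun u hu => by
      obtain ⟨x, rfl⟩ := (mem u).1 hu
      rw [show (s * r)⁻¹ * (r * s) * φ x * ((s * r)⁻¹ * (r * s))⁻¹ =
        (s * r)⁻¹ * (r * (s * φ x * s⁻¹) * r⁻¹) * (s * r) by group, hσ, hi, c, ← hσ, ← hi]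
      group)) j hj
  · exact ⟨r ^ k, fun x => by rw [it, c]⟩
  · exact ⟨s * r ^ k, fun x => by rw [c, ← hσ, ← it]; group⟩

end Cfsg.Agent.Hig
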