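import Cfsg.Agent.Hig.Rel

/-! The case `3³ : 2²`. -/

set_option autoImplicit false
set_option linter.unusedSectionVars false

namespace Cfsg.Agent.Hig

open Finset Subgroup Cfsg.Agent.Char Cfsg.Agent.Block Cfsg.Agent.Small
open scoped ComplexConjugate

variable {G : Type*} [Group G] [Finite G]

def e27G : List (List ℤ) :=
  [[3, 0, 1, 1, 1, 1, 1, 0, 0, 0, 0], [0, 3, 1, 1, 1, 1, 1, 0, 0, 0, 0], [1, 1, 3, 0, 1, 1, 0, 0,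
  0, 0, 0], [1, 1, 0, 3, 1, 1, 0, 0, 0, 0, 0], [1, 1, 1, 1, 3, 0, 0, 0, 0, 0, 0], [1, 1, 1, 1, 0,
  3, 0, 0, 0, 0, 0], [1, 1, 0, 0, 0, 0, 3, 1, 1, 1, 1], [0, 0, 0, 0, 0, 0, 1, 2, 1, 1, 1], [0, 0,
  0, 0, 0, 0, 1, 1, 2, 1, 1], [0, 0, 0, 0, 0, 0, 1, 1, 1, 2, 1], [0, 0, 0, 0, 0, 0, 1, 1, 1, 1,
  2]]

def e27V : List (List (List ℤ) × List (List ℤ) × List ℤ) :=
  [([[36, 19, -3, -13, -3, -13, -25, 5, 5, 5, 5], [19, 25, -8, -9, -8, -9, -20, 4, 4, 4, 4], [-3,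
  -8, 16, 4, 2, -3, 5, -1, -1, -1, -1], [-13, -9, 4, 15, -3, 1, 10, -2, -2, -2, -2], [-3, -8, 2,
  -3, 16, 4, 5, -1, -1, -1, -1], [-13, -9, -3, 1, 4, 15, 10, -2, -2, -2, -2], [-25, -20, 5, 10,
  5, 10, 30, -6, -6, -6, -6], [5, 4, -1, -2, -1, -2, -6, 18, -3, -3, -3], [5, 4, -1, -2, -1, -2,
  -6, -3, 18, -3, -3], [5, 4, -1, -2, -1, -2, -6, -3, -3, 18, -3], [5, 4, -1, -2, -1, -2, -6, -3,
  -3, -3, 18]], [[3, 0, 1, 1, 1, 1, 1, 0, 0, 0, 0], [0, 3, 1, 1, 1, 1, 1, 0, 0, 0, 0], [1, 1, 3,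
  0, 1, 1, 0, 0, 0, 0, 0], [1, 1, 0, 3, 1, 1, 0, 0, 0, 0, 0], [1, 1, 1, 1, 3, 0, 0, 0, 0, 0, 0],
  [1, 1, 1, 1, 0, 3, 0, 0, 0, 0, 0], [1, 1, 0, 0, 0, 0, 3, 1, 1, 1, 1], [0, 0, 0, 0, 0, 0, 1, 2,
  1, 1, 1], [0, 0, 0, 0, 0, 0, 1, 1, 2, 1, 1], [0, 0, 0, 0, 0, 0, 1, 1, 1, 2, 1], [0, 0, 0, 0, 0,
  0, 1, 1, 1, 1, 2]], [1, 0, 1, 0, 1, 0, 0, 0, 0, 0, 0]), ([[77, -33, -11, -33, -11, -35, 7, 7,
  7, 7], [-33, 81, 15, 9, -21, 15, -3, -3, -3, -3], [-11, 15, 53, -21, -19, 5, -1, -1, -1, -1],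
  [-33, 9, -21, 81, 15, 15, -3, -3, -3, -3], [-11, -21, -19, 15, 53, 5, -1, -1, -1, -1], [-35,
  15, 5, 15, 5, 65, -13, -13, -13, -13], [7, -3, -1, -3, -1, -13, 89, -19, -19, -19], [7, -3, -1,
  -3, -1, -13, -19, 89, -19, -19], [7, -3, -1, -3, -1, -13, -19, -19, 89, -19], [7, -3, -1, -3,
  -1, -13, -19, -19, -19, 89]], [[3, 1, 1, 1, 1, 1, 0, 0, 0, 0], [1, 3, 0, 1, 1, 0, 0, 0, 0, 0],
  [1, 0, 3, 1, 1, 0, 0, 0, 0, 0], [1, 1, 1, 3, 0, 0, 0, 0, 0, 0], [1, 1, 1, 0, 3, 0, 0, 0, 0, 0],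
  [1, 0, 0, 0, 0, 3, 1, 1, 1, 1], [0, 0, 0, 0, 0, 1, 2, 1, 1, 1], [0, 0, 0, 0, 0, 1, 1, 2, 1, 1],
  [0, 0, 0, 0, 0, 1, 1, 1, 2, 1], [0, 0, 0, 0, 0, 1, 1, 1, 1, 2]], [0, 1, 0, 1, 0, 0, 0, 0, 0,
  0]), ([[143, 22, -11, -55, 0, 0, 0, 0, 0], [22, 110, -55, -44, 0, 0, 0, 0, 0], [-11, -55, 143,
  22, 0, 0, 0, 0, 0], [-55, -44, 22, 110, 0, 0, 0, 0, 0], [0, 0, 0, 0, 105, -21, -21, -21, -21],
  [0, 0, 0, 0, -21, 189, -42, -42, -42], [0, 0, 0, 0, -21, -42, 189, -42, -42], [0, 0, 0, 0, -21,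
  -42, -42, 189, -42], [0, 0, 0, 0, -21, -42, -42, -42, 189]], [[3, 0, 1, 1, 0, 0, 0, 0, 0], [0,
  3, 1, 1, 0, 0, 0, 0, 0], [1, 1, 3, 0, 0, 0, 0, 0, 0], [1, 1, 0, 3, 0, 0, 0, 0, 0], [0, 0, 0, 0,
  3, 1, 1, 1, 1], [0, 0, 0, 0, 1, 2, 1, 1, 1], [0, 0, 0, 0, 1, 1, 2, 1, 1], [0, 0, 0, 0, 1, 1, 1,
  2, 1], [0, 0, 0, 0, 1, 1, 1, 1, 2]], [1, 0, 1, 0, 0, 0, 0, 0, 0]), ([[66, -33, -22, 0, 0, 0, 0,
  0], [-33, 88, 11, 0, 0, 0, 0, 0], [-22, 11, 55, 0, 0, 0, 0, 0], [0, 0, 0, 65, -13, -13, -13,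
  -13], [0, 0, 0, -13, 117, -26, -26, -26], [0, 0, 0, -13, -26, 117, -26, -26], [0, 0, 0, -13,
  -26, -26, 117, -26], [0, 0, 0, -13, -26, -26, -26, 117]], [[3, 1, 1, 0, 0, 0, 0, 0], [1, 3, 0,
  0, 0, 0, 0, 0], [1, 0, 3, 0, 0, 0, 0, 0], [0, 0, 0, 3, 1, 1, 1, 1], [0, 0, 0, 1, 2, 1, 1, 1],
  [0, 0, 0, 1, 1, 2, 1, 1], [0, 0, 0, 1, 1, 1, 2, 1], [0, 0, 0, 1, 1, 1, 1, 2]], [0, 1, 0, 0, 0,
  0, 0, 0]), ([[33, 0, 0, 0, 0, 0, 0], [0, 22, 0, 0, 0, 0, 0], [0, 0, 30, -6, -6, -6, -6], [0, 0,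
  -6, 54, -12, -12, -12], [0, 0, -6, -12, 54, -12, -12], [0, 0, -6, -12, -12, 54, -12], [0, 0,
  -6, -12, -12, -12, 54]], [[3, 0, 0, 0, 0, 0, 0], [0, 3, 0, 0, 0, 0, 0], [0, 0, 3, 1, 1, 1, 1],
  [0, 0, 1, 2, 1, 1, 1], [0, 0, 1, 1, 2, 1, 1], [0, 0, 1, 1, 1, 2, 1], [0, 0, 1, 1, 1, 1, 2]],
  [1, 0, 0, 0, 0, 0, 0]), ([[11, 0, 0, 0, 0, 0], [0, 15, -3, -3, -3, -3], [0, -3, 27, -6, -6,
  -6], [0, -3, -6, 27, -6, -6], [0, -3, -6, -6, 27, -6], [0, -3, -6, -6, -6, 27]], [[3, 0, 0, 0,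
  0, 0], [0, 3, 1, 1, 1, 1], [0, 1, 2, 1, 1, 1], [0, 1, 1, 2, 1, 1], [0, 1, 1, 1, 2, 1], [0, 1,
  1, 1, 1, 2]], [0, 0, 0, 0, 0, 0]), ([[5, -1, -1, -1, -1], [-1, 9, -2, -2, -2], [-1, -2, 9, -2,
  -2], [-1, -2, -2, 9, -2], [-1, -2, -2, -2, 9]], [[3, 1, 1, 1, 1], [1, 2, 1, 1, 1], [1, 1, 2, 1,
  1], [1, 1, 1, 2, 1], [1, 1, 1, 1, 2]], [0, 0, 0, 0, 0]), ([[4, -1, -1, -1], [-1, 4, -1, -1],
  [-1, -1, 4, -1], [-1, -1, -1, 4]], [[2, 1, 1, 1], [1, 2, 1, 1], [1, 1, 2, 1], [1, 1, 1, 2]],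
  [0, 0, 0, 0]), ([[3, -1, -1], [-1, 3, -1], [-1, -1, 3]], [[2, 1, 1], [1, 2, 1], [1, 1, 2]], [0,
  0, 0]), ([[2, -1], [-1, 2]], [[2, 1], [1, 2]], [0, 0]), ([[1]], [[2]], [0])]

def e27F : List (ℕ × List ℤ) :=
  [(2, [0, 0, 0, 0, 0, 0, 0, 0, 0, 0, 1]), (3, [0, 0, 0, 0, 0, 0, 0, 0, 0, 1, -1]), (5, [0, 0, 0,
  0, 0, 0, 0, 0, 0, 1]), (7, [0, 0, 0, 0, 0, 0, 0, 0, 1, -1]), (11, [0, 0, 0, 0, 0, 0, 0, 1,
  -1]), (13, [0, 0, 0, 0, 0, 0, 1, -1]), (17, [0, 0, 0, 0, 0, 1]), (19, [0, 0, 0, 0, 1]), (23,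
  [0, 0, 0, 1]), (29, [0, 0, 1]), (31, [1]), (37, [0, 0, 0, 1, -1]), (41, [0, 0, 0, 1, 0, -1]),
  (43, [0, 1, 0, -1])]

def e27M : List (List ℤ) :=
  [[1, 0, 0, 9, 0, 0, 2, 2, 0, 2, 0], [1, 0, 0, -9, 0, 0, 2, 2, 0, 2, 0], [0, 1, 0, 0, 9, 0, 2,
  0, 2, 2, 0], [0, 1, 0, 0, -9, 0, 2, 0, 2, 2, 0], [0, 0, 1, 0, 0, 9, 0, 2, 2, 2, 0], [0, 0, 1,
  0, 0, -9, 0, 2, 2, 2, 0], [0, -2, 0, 0, 0, 0, 2, 0, -4, 2, 0], [0, -2, 2, 0, 0, 0, 2, -2, 0, 0,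
  0], [-2, 0, 2, 0, 0, 0, 2, 0, -2, 0, 0], [0, 0, 2, 0, 0, 0, 0, -2, -2, 1, -9], [0, 0, 2, 0, 0,
  0, 0, -2, -2, 1, 9]]

def e27S : List (List ℤ) :=
  [[1, 0, 0, 1, 0, 1, 0, 0, 0, 0, 0], [0, 1, 1, 0, 0, 1, 0, 0, 0, 0, 0],
  [0, 1, 0, 1, 1, 0, 0, 0, 0, 0, 0], [1, 0, 0, 0, 0, 0, 1, 0, 0, 0, 0],
  [0, 1, 0, 0, 0, 0, 1, 0, 0, 0, 0], [0, 0, 1, 0, 0, 0, 0, 0, 0, 0, 0],
  [0, 0, 0, 1, 0, 0, 0, 0, 0, 0, 0], [0, 0, 0, 0, 1, 0, 0, 0, 0, 0, 0],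
  [0, 0, 0, 0, 0, 1, 0, 0, 0, 0, 0], [0, 0, 0, 0, 0, 0, 1, 1, 1, 1, 1],
  [0, 0, 0, 0, 0, 0, 0, 1, 0, 0, 0], [0, 0, 0, 0, 0, 0, 0, 0, 1, 0, 0],
  [0, 0, 0, 0, 0, 0, 0, 0, 0, 1, 0], [0, 0, 0, 0, 0, 0, 0, 0, 0, 0, 1]]

theorem e27_check : check e27G [1, 0, 1, 0, 1, 0, 0, 0, 0, 0, 0] 1 [-1, 0, 1] e27V e27F
    [2, 3, 5, 7, 11, 13, 17, 19, 23, 29, 31, 37, 41, 43] (fun _ => true) [e27S] = true := by
  decide +kernel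

abbrev K3 := ZMod 3 × ZMod 3 × ZMod 3

def e3 (i x : K3) : K3 := (i.1 * x.1, i.2.1 * x.2.1, i.2.2 * x.2.2)

def E3 : Finset K3 := {(1, 1, 1), (1, -1, -1), (-1, 1, -1), (-1, -1, 1)}

def lin3 (c : K3) : K3 →+ ZMod 3 :=
  AddMonoidHom.mk' (fun x => c.1 * x.1 + c.2.1 * x.2.1 + c.2.2 * x.2.2) fun x y => by
    simp only [Prod.fst_add, Prod.snd_add]; ring

def rp3 (x : K3) : K3 :=
  (if x.1 * x.2.1 * x.2.2 = 0 then 1 else x.1 * x.2.1 * x.2.2) •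
    (x.1 * x.1, x.2.1 * x.2.1, x.2.2 * x.2.2)

def reps3 : List K3 := [0, (1, 0, 0), (0, 1, 0), (0, 0, 1), (1, 1, 0), (1, 0, 1), (0, 1, 1),
  (1, 1, 1), -(1, 1, 1)]

theorem e27_mult {φ : K3 → G} (h : Mod e3 E3 φ) {w : ℂ} (hw : w ^ 2 + w + 1 = 0)
    {χ : IrrCharacter G} {A B C P Q R : ℤ} (hA : χ.1 (φ (1, 0, 0)) = A)
    (hB : χ.1 (φ (0, 1, 0)) = B) (hC : χ.1 (φ (0, 0, 1)) = C) (hP : χ.1 (φ (1, 1, 0)) = P)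
    (hQ : χ.1 (φ (1, 0, 1)) = Q) (hR : χ.1 (φ (0, 1, 1)) = R) :
    ∃ x k : ℤ, (x : ℂ) = χ.1 (φ (1, 1, 1)) + χ.1 (φ (1, 1, 1))⁻¹ ∧
      (k : ℂ) = -(1 + 2 * w) / 9 * χ.1 (φ (1, 1, 1)) + (1 + 2 * w) / 9 * χ.1 (φ (1, 1, 1))⁻¹ ∧
      9 ∣ A + 2 * P + 2 * Q + 2 * x ∧ 9 ∣ B + 2 * P + 2 * R + 2 * x ∧
      9 ∣ C + 2 * Q + 2 * R + 2 * x ∧ 9 ∣ P - B - 2 * R + x ∧ 9 ∣ C + P - B - Q ∧
      9 ∣ C + P - A - R ∧ 18 ∣ 2 * C - 2 * Q - 2 * R + x - 9 * k := by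
  have k := fun c T hT => h.mult_tab (lin3 c) hw (rp := rp3) (by decide) (reps := reps3)
    (by decide) T hT χ
  obtain ⟨m0, h0⟩ := k (0, 0, 0) [(1, 0), (2, 0), (2, 0), (2, 0), (4, 0), (4, 0), (4, 0), (4, 0),
    (4, 0)] (by decide +kernel)
  obtain ⟨m1, h1⟩ := k (1, 0, 0) [(1, 0), (-1, 0), (2, 0), (2, 0), (-2, 0), (-2, 0), (4, 0),
    (-2, 0), (-2, 0)] (by decide +kernel)
  obtain ⟨m2, h2⟩ := k (0, 1, 0) [(1, 0), (2, 0), (-1, 0), (2, 0), (-2, 0), (4, 0), (-2, 0),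
    (-2, 0), (-2, 0)] (by decide +kernel)
  obtain ⟨m3, h3⟩ := k (0, 0, 1) [(1, 0), (2, 0), (2, 0), (-1, 0), (4, 0), (-2, 0), (-2, 0),
    (-2, 0), (-2, 0)] (by decide +kernel)
  obtain ⟨m4, h4⟩ := k (1, 1, 0) [(1, 0), (-1, 0), (-1, 0), (2, 0), (1, 0), (-2, 0), (-2, 0),
    (1, 0), (1, 0)] (by decide +kernel)
  obtain ⟨m5, h5⟩ := k (1, 0, 1) [(1, 0), (-1, 0), (2, 0), (-1, 0), (-2, 0), (1, 0), (-2, 0),
    (1, 0), (1, 0)] (by decide +kernel)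
  obtain ⟨m6, h6⟩ := k (0, 1, 1) [(1, 0), (2, 0), (-1, 0), (-1, 0), (-2, 0), (-2, 0), (1, 0),
    (1, 0), (1, 0)] (by decide +kernel)
  obtain ⟨m7, h7⟩ := k (1, 1, 1) [(1, 0), (-1, 0), (-1, 0), (-1, 0), (1, 0), (1, 0), (1, 0),
    (-2, -3), (1, 3)] (by decide +kernel)
  obtain ⟨m8, h8⟩ := k (2, 2, 2) [(1, 0), (-1, 0), (-1, 0), (-1, 0), (1, 0), (1, 0), (1, 0),
    (1, 3), (-2, -3)] (by decide +kernel)
  simp only [reps3, List.zipWith_cons_cons, List.zipWith_nil_left, List.sum_cons, List.sum_nil,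
    hA, hB, hC, hP, hQ, hR, h.zero, h.neg, χ.2.apply_one_eq_charDegree,
    show Fintype.card K3 = 27 from rfl] at h0 h1 h2 h3 h4 h5 h6 h7 h8
  push_cast at h0 h1 h2 h3 h4 h5 h6 h7 h8
  obtain ⟨x, hx⟩ : ∃ x : ℤ, (x : ℂ) = χ.1 (φ (1, 1, 1)) + χ.1 (φ (1, 1, 1))⁻¹ :=
    ⟨27 * m4 - (charDegree χ.1 - A - B + 2 * C + P - 2 * Q - 2 * R), by
      push_cast; linear_combination -h4⟩
  have c : ∀ {a b : ℤ}, (a : ℂ) = b → a = b := fun h => Int.cast_injective h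
  refine ⟨x, m7 - m8, hx, by push_cast; linear_combination (h8 - h7) / 27,
    ⟨m0 - m1, c ?_⟩, ⟨m0 - m2, c ?_⟩, ⟨m0 - m3, c ?_⟩, ⟨m4 - m1, c ?_⟩, ⟨m4 - m5, c ?_⟩,
    ⟨m4 - m6, c ?_⟩, ⟨m4 - m7, c ?_⟩⟩ <;> push_cast
  · linear_combination (h0 - h1) / 3 + 2 * hx
  · linear_combination (h0 - h2) / 3 + 2 * hx
  · linear_combination (h0 - h3) / 3 + 2 * hx
  · linear_combination (h4 - h1) / 3 + hx
  · linear_combination (h4 - h5) / 3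
  · linear_combination (h4 - h6) / 3
  · linear_combination (2 * h4 - h7 - h8) / 3 + hx

theorem e27_arith {d : ℕ → ℤ} (d0 : ∀ i, d i ≠ 0) (r0 : 1 + (d 0 + d 3) = 0)
    (r1 : d 1 + d 2 + d 4 = 0) (r2 : 1 + (d 1 + d 5) = 0) (r3 : d 0 + d 2 + d 6 = 0)
    (r4 : 1 + (d 2 + d 7) = 0) (r5 : d 0 + d 1 + d 8 = 0) (r6 : d 3 + d 4 + d 9 = 0)
    {L τ a b c : ℚ} (hτ : τ = 1 / d 9) (ha : a = -(1 / d 3 + 1 / d 4))
    (hb : b = -(1 / d 5 + 1 / d 6)) (hc : c = -(1 / d 7 + 1 / d 8))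
    (t1 : L + 2 * a - 4 * b + 8 * c - 40 * τ = 0) (t2 : L + 2 * a + 8 * b - 4 * c - 40 * τ = 0)
    (t3 : L - 4 * a + 2 * b + 8 * c - 40 * τ = 0) (t4 : L - 4 * a - 4 * b - 4 * c + 32 * τ = 0) :
    d 0 = 1 ∧ d 1 = 1 ∧ d 2 = 1 := by
  have q0 : ∀ i, (d i : ℚ) ≠ 0 := fun i => Int.cast_ne_zero.2 (d0 i)
  have k : ∀ i j, d i + d j + d 9 = 0 → 4 * τ = -(1 / d i + 1 / d j) → d i = d j :=
    fun i j h1 h2 => by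
      exact_mod_cast eq_of_harm (q0 i) (q0 j) (q0 9) (by exact_mod_cast h1) (by
        rw [hτ] at h2; linear_combination h2)
  have := k 3 4 r6 (by rw [← ha]; linarith)
  have := k 5 6 (by omega) (by rw [← hb]; linarith)
  have := k 7 8 (by omega) (by rw [← hc]; linarith)
  omega

set_option synthInstance.maxSize 2000 in
theorem card_e27 {φ : K3 → G} (h : SMod e3 E3 φ) : Nat.card G = 108 := by
  obtain ⟨w, hw⟩ := exists_omega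
  obtain ⟨A, hA, cA, A1, sA, -⟩ := h.val (1, 0, 0) (by decide)
  obtain ⟨B, hB, cB, B1, sB, -⟩ := h.val (0, 1, 0) (by decide)
  obtain ⟨C, hC, cC, C1, sC, -⟩ := h.val (0, 0, 1) (by decide)
  obtain ⟨P, hP, cP, P1, sP, -⟩ := h.val (1, 1, 0) (by decide)
  obtain ⟨Q, hQ, cQ, Q1, sQ, -⟩ := h.val (1, 0, 1) (by decide)
  obtain ⟨R, hR, cR, R1, sR, -⟩ := h.val (0, 1, 1) (by decide)
  obtain ⟨-, U, -, -, cU, U1, sU, dU⟩ := h.six (1, 0, 0) (1, -1, -1) (by decide) hA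
  obtain ⟨-, V, -, -, cV, V1, sV, dV⟩ := h.six (0, 1, 0) (-1, 1, -1) (by decide) hB
  obtain ⟨-, W, -, -, cW, W1, sW, dW⟩ := h.six (0, 0, 1) (-1, -1, 1) (by decide) hC
  choose x k hx hk hd using fun χ => e27_mult h.toMod hw (hA χ) (hB χ) (hC χ) (hP χ) (hQ χ) (hR χ)
  have g4 : φ (1, 1, 1) ^ 4 = φ (1, 1, 1) := by rw [pow_succ, h.cube, one_mul]
  have cx : Cl φ x ((1, 1, 1), false) := ⟨_, ⟨1, 1, fun χ => by simp [hx]⟩, g4, by simp [h.cube]⟩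
  have ck : Cl φ k ((1, 1, 1), false) := ⟨_, ⟨_, _, hk⟩, g4, by simp [h.cube]⟩
  have s1 : ∑ χ : IrrCharacter G, χ.1 (φ (1, 1, 1)) * χ.1 (φ (1, 1, 1))⁻¹ = 27 := by
    have := sum_irr_mul_conj_of_isConj (IsConj.refl (φ (1, 1, 1)))
    rw [h.card_cent (by decide), show _ * #(E3.filter _) = 27 by decide] at this
    simpa only [IsIrrCharacter.apply_inv (Subtype.prop _), Nat.cast_ofNat] using this
  have nc : ¬ IsConj (φ (1, 1, 1)) (φ (1, 1, 1))⁻¹ := by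
    rw [← h.neg, h.conj_iff (by decide)]; decide
  have s2 : ∑ χ : IrrCharacter G, χ.1 (φ (1, 1, 1)) * χ.1 (φ (1, 1, 1)) = 0 := by
    simpa only [IsIrrCharacter.apply_inv (Subtype.prop _), Complex.conj_conj] using
      sum_irr_mul_conj_of_not_isConj nc
  have s3 : ∑ χ : IrrCharacter G, χ.1 (φ (1, 1, 1))⁻¹ * χ.1 (φ (1, 1, 1))⁻¹ = 0 := by
    simpa only [← IsIrrCharacter.apply_inv (Subtype.prop _)] using
      sum_irr_mul_conj_of_not_isConj fun c => nc c.symm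
  have s : ∀ {u v : IrrCharacter G → ℤ} {a b c d : ℂ} {n : ℤ}, (∀ χ : IrrCharacter G, (u χ : ℂ) =
      a * χ.1 (φ (1, 1, 1)) + b * χ.1 (φ (1, 1, 1))⁻¹) → (∀ χ : IrrCharacter G, (v χ : ℂ) =
      c * χ.1 (φ (1, 1, 1)) + d * χ.1 (φ (1, 1, 1))⁻¹) → (a * d + b * c) * 27 = n →
      ∑ χ, u χ * v χ = n := fun {u v a b c d n} hu hv e => by
    apply Int.cast_injective (α := ℂ)
    rw [← e, ← s1, ← add_zero (_ * _), ← add_zero (0 : ℂ), ← mul_zero (a * c), ← s2,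
      show _ * ∑ χ, _ + _ * ∑ χ, _ = a * c * ∑ χ : IrrCharacter G, χ.1 (φ (1, 1, 1)) *
        χ.1 (φ (1, 1, 1)) + b * d * ∑ χ : IrrCharacter G, χ.1 (φ (1, 1, 1))⁻¹ *
        χ.1 (φ (1, 1, 1))⁻¹ by rw [s2, s3]; simp]
    simp only [Int.cast_sum, Int.cast_mul, hu, hv, mul_sum, ← sum_add_distrib]
    exact sum_congr rfl fun χ _ => by ring
  have hx' : ∀ χ : IrrCharacter G, (x χ : ℂ) = 1 * χ.1 (φ (1, 1, 1)) + 1 * χ.1 (φ (1, 1, 1))⁻¹ :=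
    fun χ => by simp [hx]
  have sx : ∑ χ, x χ * x χ = 54 := s hx' hx' (by norm_num)
  have sk : ∑ χ, k χ * k χ = 2 := s hk hk (by push_cast; linear_combination (-8 / 3) * hw)
  have x1 : x (irrOne G) = 2 := by
    have := hx (irrOne G); rw [irrOne_apply, irrOne_apply] at this; exact_mod_cast this
  have k1 : k (irrOne G) = 0 := by
    have := hk (irrOne G); rw [irrOne_apply, irrOne_apply] at this
    exact_mod_cast this.trans (show _ = (0 : ℂ) by ring)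
  have hv : ∀ {y}, Cl φ y ((1, 1, 1), false) → List.Forall₂ (Cl φ) [A, B, C, U, V, W, P, Q, R, y]
      [((1, 0, 0), false), ((0, 1, 0), false), ((0, 0, 1), false), ((1, 0, 0), true),
      ((0, 1, 0), true), ((0, 0, 1), true), ((1, 1, 0), false), ((1, 0, 1), false),
      ((0, 1, 1), false), ((1, 1, 1), false)] := fun c =>
    .cons cA (.cons cB (.cons cC (.cons cU (.cons cV (.cons cW (.cons cP (.cons cQ (.cons cR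
      (.cons c .nil)))))))))
  have hp : [A, B, C, U, V, W, P, Q, R, x, k].Pairwise fun c c' => ∑ i, c i * c' i = 0 := by
    have a1 := h.pairwise (hv cx) (by decide)
    have a2 := (List.pairwise_append (l₁ := [A, B, C, U, V, W, P, Q, R]) (l₂ := [k])).1
      (h.pairwise (hv ck) (by decide))
    refine (List.pairwise_append (l₁ := [A, B, C, U, V, W, P, Q, R, x]) (l₂ := [k])).2
      ⟨a1, a2.2.1, fun u hu v hv => ?_⟩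
    rcases (List.mem_append (s := [A, B, C, U, V, W, P, Q, R]) (t := [x])).1 hu with c | c
    · exact a2.2.2 u c v hv
    · rw [List.mem_singleton.1 c, List.mem_singleton.1 hv]
      exact s hx' hk (by ring)
  have hM : ∀ r ∈ e27M, ∀ χ, (18 : ℤ) ∣ dot r (ty [A, B, C, U, V, W, P, Q, R, x, k] χ) :=
    fun r hr χ => by
      obtain ⟨⟨m1, _⟩, ⟨m2, _⟩, ⟨m3, _⟩, ⟨m4, _⟩, ⟨m5, _⟩, ⟨m6, _⟩, ⟨m7, _⟩⟩ := hd χ
      obtain ⟨n1, _⟩ := dU χ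
      obtain ⟨n2, _⟩ := dV χ
      obtain ⟨n3, _⟩ := dW χ
      simp only [e27M, List.mem_cons, List.not_mem_nil, or_false] at hr
      rcases hr with rfl | rfl | rfl | rfl | rfl | rfl | rfl | rfl | rfl | rfl | rfl <;>
        simp only [ty, List.map_cons, List.map_nil, dot_cons, dot_nil] <;> omega
  have hd := fun L w e => dot_coords' (m := 18) (by decide) (L := L) (w := w) hM e
  have vA : ∀ χ : IrrCharacter G, χ.1 (φ (1, 0, 0)) =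
      dot [5, 5, -2, -2, -2, -2, -4, 2, -4, 2, 2] (ty (coords _ e27M 18) χ) :=
    fun χ => by rw [hd _ [1, 0, 0, 0, 0, 0, 0, 0, 0, 0, 0] (by decide), hA]; simp [ty]
  have vB : ∀ χ : IrrCharacter G, χ.1 (φ (0, 1, 0)) =
      dot [2, 2, 1, 1, -2, -2, -4, -4, 2, 2, 2] (ty (coords _ e27M 18) χ) :=
    fun χ => by rw [hd _ [0, 1, 0, 0, 0, 0, 0, 0, 0, 0, 0] (by decide), hB]; simp [ty]
  have vC : ∀ χ : IrrCharacter G, χ.1 (φ (0, 0, 1)) =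
      dot [2, 2, -2, -2, 1, 1, -4, 2, 2, 2, 2] (ty (coords _ e27M 18) χ) :=
    fun χ => by rw [hd _ [0, 0, 1, 0, 0, 0, 0, 0, 0, 0, 0] (by decide), hC]; simp [ty]
  have vP : ∀ χ : IrrCharacter G, χ.1 (φ (1, 1, 0)) =
      dot [2, 2, 1, 1, -2, -2, -1, 2, 2, -1, -1] (ty (coords _ e27M 18) χ) :=
    fun χ => by rw [hd _ [0, 0, 0, 0, 0, 0, 1, 0, 0, 0, 0] (by decide), hP]; simp [ty]
  have ht : ty (coords [A, B, C, U, V, W, P, Q, R, x, k] e27M 18) (irrOne G) =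
      [1, 0, 1, 0, 1, 0, 0, 0, 0, 0, 0] := by
    rw [ty_coords]
    simp only [ty, List.map_cons, List.map_nil, A1, B1, C1, U1, V1, W1, P1, Q1, R1, x1, k1]
    decide
  obtain ⟨sol, hsol, X, s, d, hs, hd, d0, h3, h4, -, -, h2⟩ := exists_degrees _ e27_check (by
      rw [gram_coords (ds := [54, 54, 54, 6, 6, 6, 27, 27, 27, 54, 2]) (by decide) hp (by
        simp only [List.map_cons, List.map_nil, sA, sB, sC, sU, sV, sW, sP, sQ, sR, sx, sk]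
        decide) hM]
      decide +kernel) ht fun χ => .inr fun _ _ => rfl
  obtain rfl := List.mem_singleton.1 hsol
  have r := Mod.degrees (fun v hv => by
    simp only [List.mem_cons, List.not_mem_nil, or_false] at hv
    rcases hv with rfl | rfl | rfl | rfl | rfl | rfl | rfl | rfl | rfl | rfl | rfl <;>
      exact h.deg_sum ‹_› (by decide)) (by decide) hM (by decide +kernel) hs hd h3 h4
  rw [ht] at r
  have r0 := r [1]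
  have r1 := r [0, 1]
  have r2 := r [0, 0, 1]
  have r3 := r [0, 0, 0, 1]
  have r4 := r [0, 0, 0, 0, 1]
  have r5 := r [0, 0, 0, 0, 0, 1]
  have r6 := r [0, 0, 0, 0, 0, 0, 1]
  have r7 := r [0, 0, 0, 0, 0, 0, 0, 1]
  have r8 := r [0, 0, 0, 0, 0, 0, 0, 0, 1]
  have r9 := r [0, 0, 0, 0, 0, 0, 0, 0, 0, 1]
  have r10 := r [0, 0, 0, 0, 0, 0, 0, 0, 0, 0, 1]
  have t1 := h2 _ _ _ _ _ _ vA vA vB
  have t2 := h2 _ _ _ _ _ _ vA vA vC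
  have t3 := h2 _ _ _ _ _ _ vB vB vA
  have t4 := h2 _ _ _ _ _ _ vA vB vC
  have t5 := h2 _ _ _ _ _ _ vA vB vP
  rw [h.pairs h.tri _ _ _ (by decide)] at t1 t2 t3 t4 t5
  rw [show #(univ.filter _) = 0 by decide] at t1 t2 t3 t4
  rw [show _ * #(univ.filter _) = 2916 by decide] at t5
  simp [e27S, sum_range_succ, Nat.card_pos.ne'] at r0 r1 r2 r3 r4 r5 r6 r7 r8 r9 r10 t1 t2 t3 t4 t5
  rw [show d 10 = -d 9 by omega, show d 11 = -d 9 by omega, show d 12 = -d 9 by omega,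
    show d 13 = -d 9 by omega] at t1 t2 t3 t4 t5
  push_cast at t1 t2 t3 t4 t5
  obtain ⟨a0, a1, a2⟩ := e27_arith d0 r0 r1 r2 r3 r4 r5 r6 (L := 1 + 1 / d 0 + 1 / d 1 + 1 / d 2)
    rfl rfl rfl rfl (by linear_combination t1) (by linear_combination t2)
    (by linear_combination t3) (by linear_combination t4)
  rw [a0, a1, a2, show d 3 = -2 by omega, show d 4 = -2 by omega, show d 5 = -2 by omega,
    show d 6 = -2 by omega, show d 7 = -2 by omega, show d 8 = -2 by omega,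
    show d 9 = 4 by omega] at t5
  have : (Nat.card G : ℚ) = 108 := by push_cast at t5; linarith
  exact_mod_cast this

end Cfsg.Agent.Hig
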