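import Cfsg.Agent.Hig.Char

/-! The model `Mod` of an elementary abelian `3`-subgroup `φ K` that is self-centralising and a
trivial-intersection set, with automiser `E`: classes, centralisers, character values. -/

set_option autoImplicit false
set_option linter.unusedSectionVars false

namespace Cfsg.Agent.Hig

open Finset Subgroup Cfsg.Agent.Char Cfsg.Agent.Block Cfsg.Agent.Small
open scoped ComplexConjugate

variable {G : Type*} [Group G] [Finite G] {K ι : Type} [AddCommGroup K] [Fintype K]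
  [DecidableEq K]

structure Mod (e : ι → K → K) (E : Finset ι) (φ : K → G) : Prop where
  add : ∀ x y, φ (x + y) = φ x * φ y
  inj : Function.Injective φ
  three : ∀ x : K, x + x + x = 0
  act : ∀ g k k', k ≠ 0 → g * φ k * g⁻¹ = φ k' → ∃ i ∈ E, ∀ x, g * φ x * g⁻¹ = φ (e i x)
  real : ∀ i ∈ E, ∃ n, ∀ x, n * φ x * n⁻¹ = φ (e i x)
  cent : ∀ g, (∀ x, g * φ x * g⁻¹ = φ x) → ∃ k, φ k = g
  faith : ∀ i ∈ E, ∀ j ∈ E, (∀ x, e i x = e j x) → i = j

/-- `v` is a combination of the values at `g` and `g⁻¹`, where `g` has `3`-part `φ k`. -/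
def Cl (φ : K → G) (v : IrrCharacter G → ℤ) (l : K × Bool) : Prop :=
  ∃ g : G, (∃ a c : ℂ, ∀ χ : IrrCharacter G, (v χ : ℂ) = a * χ.1 g + c * χ.1 g⁻¹) ∧
    g ^ 4 = φ l.1 ∧ (g ^ 3 = 1 ↔ l.2 = false)

theorem exists_int_six {u : G} (h6 : u ^ 6 = 1) (ru : IsConj u u⁻¹) (χ : IrrCharacter G) :
    ∃ n : ℤ, χ.1 u = n :=
  χ.2.isCharacter.isGeneralizedCharacter.exists_int_of_forall_pow fun m hm => by
    have hd := orderOf_dvd_of_pow_eq_one h6
    obtain e | e : u ^ m = u ∨ u ^ m = u⁻¹ := by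
      have k : ∀ n : ℕ, orderOf u = n → (m % n = 1 % n ∨ (m + 1) % n = 0) →
          u ^ m = u ∨ u ^ m = u⁻¹ := fun n hn h => h.imp (fun h => by
        rw [← pow_mod_orderOf, hn, h, ← hn, pow_mod_orderOf, pow_one]) fun h =>
          eq_inv_of_mul_eq_one_left (by rw [← pow_succ, ← pow_mod_orderOf, hn, h, pow_zero])
      have c : ∀ q : ℕ, q.Prime → q ∣ orderOf u → ¬ q ∣ m := fun q hq h1 h2 =>
        hq.one_lt.ne' (Nat.eq_one_of_dvd_coprimes hm h2 h1)
      have c2 := c 2 Nat.prime_two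
      have c3 := c 3 Nat.prime_three
      have := Nat.le_of_dvd (by omega) hd
      refine k _ rfl ?_
      have h0 := orderOf_pos u
      generalize orderOf u = n at *
      obtain ⟨q, r, hr, rfl⟩ : ∃ q r, r < 6 ∧ m = 6 * q + r :=
        ⟨m / 6, m % 6, Nat.mod_lt _ (by omega), (Nat.div_add_mod m 6).symm⟩
      interval_cases n <;> interval_cases r <;> omega
    · rw [e]
    · rw [e, χ.2.isClassFunction.apply_eq_of_isConj ru]

theorem sum_int_self {g : G} {v : IrrCharacter G → ℤ} (h : ∀ χ : IrrCharacter G, χ.1 g = v χ) :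
    ∑ χ, v χ * v χ = Nat.card (centralizer ({g} : Set G)) := by
  have := sum_irr_mul_conj_of_isConj (IsConj.refl g)
  simp only [h, map_intCast] at this
  exact_mod_cast this

namespace Mod

variable {e : ι → K → K} {E : Finset ι} {φ : K → G} (h : Mod e E φ)
include h

theorem zero : φ 0 = 1 := by simpa using h.add 0 0

theorem neg (x : K) : φ (-x) = (φ x)⁻¹ :=
  eq_inv_of_mul_eq_one_left (by rw [← h.add, neg_add_cancel, h.zero])

theorem comm (x y : K) : φ x * φ y = φ y * φ x := by rw [← h.add, ← h.add, add_comm]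

theorem cube (x : K) : φ x ^ 3 = 1 := by rw [pow_three', ← h.add, ← h.add, h.three, h.zero]

theorem ne_one {x : K} (hx : x ≠ 0) : φ x ≠ 1 := fun c => hx (h.inj (c.trans h.zero.symm))

theorem ord {x : K} (hx : x ≠ 0) : orderOf (φ x) = 3 :=
  haveI := Fact.mk Nat.prime_three
  orderOf_eq_prime (h.cube x) (h.ne_one hx)

theorem isConj_of {i : ι} (hi : i ∈ E) (k : K) : IsConj (φ k) (φ (e i k)) :=
  let ⟨n, hn⟩ := h.real i hi
  isConj_iff.2 ⟨n, hn k⟩

theorem conj_iff {k k' : K} (hk : k ≠ 0) : IsConj (φ k) (φ k') ↔ ∃ i ∈ E, e i k = k' := by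
  refine ⟨fun c => ?_, by rintro ⟨i, hi, rfl⟩; exact h.isConj_of hi k⟩
  obtain ⟨g, hg⟩ := isConj_iff.1 c
  obtain ⟨i, hi, h1⟩ := h.act g k k' hk hg
  exact ⟨i, hi, h.inj ((h1 k).symm.trans hg)⟩

theorem exists_mul {g n : G} {f : K → K} (hg : ∀ x, g * φ x * g⁻¹ = φ (f x))
    (hn : ∀ x, n * φ x * n⁻¹ = φ (f x)) : ∃ y, g = n * φ y := by
  obtain ⟨y, hy⟩ := h.cent (n⁻¹ * g) fun x => by
    rw [show n⁻¹ * g * φ x * (n⁻¹ * g)⁻¹ = n⁻¹ * (g * φ x * g⁻¹) * n by group, hg, ← hn]; group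
  exact ⟨y, by rw [hy]; group⟩

theorem conj_mul {n : G} {f : K → K} (hn : ∀ x, n * φ x * n⁻¹ = φ (f x)) (y x : K) :
    n * φ y * φ x * (n * φ y)⁻¹ = φ (f x) := by
  rw [mul_assoc n, h.comm y, ← hn]; group

theorem card_cent {k : K} (hk : k ≠ 0) : Nat.card (centralizer ({φ k} : Set G)) =
    Fintype.card K * #(E.filter (e · k = k)) := by
  choose! n hn using h.real
  rw [mul_comm, ← Fintype.card_coe, ← Fintype.card_prod, ← Nat.card_eq_fintype_card]
  refine (Nat.card_eq_of_bijective (fun x : E.filter (e · k = k) × K => (⟨n x.1 * φ x.2,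
    mem_centralizer_singleton_iff.2 (mul_inv_eq_iff_eq_mul.1 (by
      rw [h.conj_mul (hn _ (mem_filter.1 x.1.2).1), (mem_filter.1 x.1.2).2]))⟩ :
      centralizer ({φ k} : Set G))) ⟨fun x y c => ?_, fun g => ?_⟩).symm
  · have c : n x.1 * φ x.2 = n y.1 * φ y.2 := congrArg Subtype.val c
    have : x.1 = y.1 := Subtype.ext (h.faith _ (mem_filter.1 x.1.2).1 _ (mem_filter.1 y.1.2).1
      fun z => h.inj (by rw [← h.conj_mul (hn _ (mem_filter.1 x.1.2).1) x.2, c,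
        h.conj_mul (hn _ (mem_filter.1 y.1.2).1)]))
    rw [this] at c
    exact Prod.ext this (h.inj (mul_left_cancel c))
  · have hg := mul_inv_eq_iff_eq_mul.2 (mem_centralizer_singleton_iff.1 g.2)
    obtain ⟨i, hi, h1⟩ := h.act g k k hk hg
    obtain ⟨y, hy⟩ := h.exists_mul h1 (hn i hi)
    exact ⟨(⟨i, mem_filter.2 ⟨hi, h.inj ((h1 k).symm.trans hg)⟩⟩, y), Subtype.ext hy.symm⟩

theorem vanish {v : IrrCharacter G → ℤ} {l : K × Bool} (hv : Cl φ v l) (hl : l.1 ≠ 0)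
    {χ : IrrCharacter G} (h0 : ∀ g, 3 ∣ orderOf g → χ.1 g = 0) : v χ = 0 := by
  obtain ⟨g, ⟨a, c, h1⟩, h2, -⟩ := hv
  have : 3 ∣ orderOf g := h.ord hl ▸ h2 ▸ orderOf_pow_dvd 4
  have h3 := h1 χ
  rw [h0 g this, h0 _ (by rwa [orderOf_inv])] at h3
  simpa using h3

def Sep (e : ι → K → K) (E : Finset ι) (l l' : K × Bool) : Prop :=
  l.1 ≠ 0 ∧ (l.2 ≠ l'.2 ∨ ∀ i ∈ E, e i l.1 ≠ l'.1 ∧ e i l.1 ≠ -l'.1)

omit h in
instance decSep (e : ι → K → K) (E : Finset ι) : DecidableRel (Sep e E) := fun _ _ => by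
  unfold Sep; infer_instance

theorem orth {v v' : IrrCharacter G → ℤ} {l l' : K × Bool} (hv : Cl φ v l) (hv' : Cl φ v' l')
    (hs : Sep e E l l') : ∑ χ, v χ * v' χ = 0 := by
  obtain ⟨g, ⟨a, c, h1⟩, h2, h3⟩ := hv
  obtain ⟨g', ⟨a', c', h1'⟩, h2', h3'⟩ := hv'
  have k : ¬ IsConj g g' ∧ ¬ IsConj g g'⁻¹ := by
    rcases hs.2 with h4 | h4
    · have : ∀ x, IsConj g x → (x ^ 3 = 1 ↔ g ^ 3 = 1) := fun x hx =>
        ⟨fun e => isConj_one_left.1 (e ▸ hx.pow 3), fun e => isConj_one_right.1 (e ▸ hx.pow 3)⟩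
      refine ⟨fun c => h4 ?_, fun c => h4 ?_⟩
      · have := h3'.symm.trans ((this _ c).trans h3)
        revert this; cases l.2 <;> cases l'.2 <;> simp
      · have := h3'.symm.trans (((by simp : g' ^ 3 = 1 ↔ g'⁻¹ ^ 3 = 1).trans (this _ c)).trans h3)
        revert this; cases l.2 <;> cases l'.2 <;> simp
    · refine ⟨fun c => ?_, fun c => ?_⟩
      · obtain ⟨i, hi, e⟩ := (h.conj_iff hs.1).1 (h2 ▸ h2' ▸ c.pow 4)
        exact (h4 i hi).1 e
      · have := c.pow 4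
        rw [inv_pow, h2, h2', ← h.neg] at this
        obtain ⟨i, hi, e⟩ := (h.conj_iff hs.1).1 this
        exact (h4 i hi).2 e
  have iv : ∀ {x y : G}, IsConj x⁻¹ y → IsConj x y⁻¹ := fun c => by
    obtain ⟨u, rfl⟩ := isConj_iff.1 c
    exact isConj_iff.2 ⟨u, by group⟩
  have s : ∀ {x y : G}, ¬ IsConj x y⁻¹ → ∑ χ : IrrCharacter G, χ.1 x * χ.1 y = 0 := fun {x y} c => by
    rw [← sum_irr_mul_conj_of_not_isConj c]
    exact sum_congr rfl fun χ _ => by rw [χ.2.apply_inv, Complex.conj_conj]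
  apply Int.cast_injective (α := ℂ)
  push_cast
  rw [sum_congr rfl (g := fun χ => a * a' * (χ.1 g * χ.1 g') + a * c' * (χ.1 g * χ.1 g'⁻¹) +
    c * a' * (χ.1 g⁻¹ * χ.1 g') + c * c' * (χ.1 g⁻¹ * χ.1 g'⁻¹)) fun χ _ => by rw [h1, h1']; ring]
  simp only [sum_add_distrib, ← mul_sum]
  rw [s k.2, s (by simpa using k.1), s fun c => k.1 (by simpa using iv c),
    s fun c => k.2 (by simpa using iv c)]
  simp

theorem pairwise {vs : List (IrrCharacter G → ℤ)} {lb : List (K × Bool)}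
    (hv : List.Forall₂ (Cl φ) vs lb) (hs : lb.Pairwise (Sep e E)) :
    vs.Pairwise fun c c' => ∑ i, c i * c' i = 0 := by
  induction hv with
  | nil => exact .nil
  | cons h1 h2 ih =>
    rw [List.pairwise_cons] at hs ⊢
    refine ⟨fun v hv => ?_, ih hs.2⟩
    obtain ⟨i, hi, rfl⟩ := List.getElem_of_mem hv
    exact h.orth h1 (h2.get hi (h2.length_eq ▸ hi)) (hs.1 _ (List.getElem_mem _))

theorem vanish_all {vs : List (IrrCharacter G → ℤ)} {lb : List (K × Bool)}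
    (hv : List.Forall₂ (Cl φ) vs lb) (hs : ∀ l ∈ lb, l.1 ≠ 0) {χ : IrrCharacter G}
    (h0 : ∀ g, 3 ∣ orderOf g → χ.1 g = 0) : ∀ v ∈ vs, v χ = 0 := fun v hv' => by
  obtain ⟨i, hi, rfl⟩ := List.getElem_of_mem hv'
  exact h.vanish (hv.get hi (hv.length_eq ▸ hi)) (hs _ (List.getElem_mem _)) h0

/-- Values at a rational element of order three. -/
theorem val (k : K) (hk : k ≠ 0 ∧ ∃ j ∈ E, e j k = -k) : ∃ A : IrrCharacter G → ℤ,
    (∀ χ : IrrCharacter G, χ.1 (φ k) = A χ) ∧ Cl φ A (k, false) ∧ A (irrOne G) = 1 ∧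
      ∑ χ, A χ * A χ = (Fintype.card K * #(E.filter (e · k = k)) : ℕ) ∧
      ∀ χ, 3 ∣ A χ - charDegree χ.1 := by
  choose A hA using exists_int_six (u := φ k) (by rw [show 6 = 3 * 2 from rfl, pow_mul, h.cube,
    one_pow]) (h.neg k ▸ (h.conj_iff hk.1).2 hk.2)
  refine ⟨A, hA, ⟨φ k, ⟨1, 0, fun χ => by simp [hA]⟩, by rw [pow_succ, h.cube, one_mul],
    by simp [h.cube]⟩, by exact_mod_cast (hA _).symm.trans (irrOne_apply _),
    by rw [sum_int_self hA, h.card_cent hk.1], fun χ => ?_⟩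
  exact dvd_sub_of_mul χ.2.isCharacter Nat.prime_three (u := φ k) (g := 1)
    ⟨1, by simp [h.ord hk.1]⟩ (Commute.one_right _) (by rw [mul_one, hA])
    (by rw [χ.2.apply_one_eq_charDegree]; simp)

/-- Values at an element of order six. -/
theorem six (k : K) (i : ι) (hk : k ≠ 0 ∧ i ∈ E ∧ e i k = k ∧ (∃ x, e i x ≠ x) ∧
    (∀ x, e i (e i x) = x) ∧ (∃ j ∈ E, e j k = -k) ∧ ∀ j ∈ E, e j k = k → j = i ∨ ∀ x, e j x = x)
    {A : IrrCharacter G → ℤ} (hA : ∀ χ : IrrCharacter G, χ.1 (φ k) = A χ) :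
    ∃ (g : G) (U : IrrCharacter G → ℤ), (∀ χ : IrrCharacter G, χ.1 g = U χ) ∧ g ≠ 1 ∧
      Cl φ U (k, true) ∧ U (irrOne G) = 1 ∧
      ∑ χ, U χ * U χ = (2 * #(univ.filter fun x => e i x = x) : ℕ) ∧ ∀ χ, 2 ∣ U χ - A χ := by
  obtain ⟨k0, hi, hk, ⟨x0, hx0⟩, h2, ⟨j, hj, hjk⟩, h3⟩ := hk
  obtain ⟨s, hs, ss⟩ : ∃ s : G, (∀ x, s * φ x * s⁻¹ = φ (e i x)) ∧ s * s = 1 := by
    obtain ⟨n, hn⟩ := h.real i hi
    obtain ⟨y, hy⟩ := h.cent (n * n) fun x => by
      rw [show n * n * φ x * (n * n)⁻¹ = n * (n * φ x * n⁻¹) * n⁻¹ by group, hn, hn, h2]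
    refine ⟨n * φ y, h.conj_mul hn y, ?_⟩
    rw [← h.cube y, hy]; simp only [pow_succ, pow_zero, one_mul, mul_assoc]
  have si : s⁻¹ = s := inv_eq_of_mul_eq_one_right ss
  have sk : s * φ k = φ k * s := mul_inv_eq_iff_eq_mul.1 (by rw [hs, hk])
  have s1 : ∀ y, s ≠ φ y := fun y c => hx0 (h.inj (by rw [← hs, c, h.comm y]; group))
  have cm : Commute s (φ k) := sk
  have g3 : (s * φ k) ^ 3 = s := by rw [cm.mul_pow, h.cube, pow_three, ss, mul_one, mul_one]
  have g4 : (s * φ k) ^ 4 = φ k := by rw [pow_succ, g3, ← mul_assoc, ss, one_mul]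
  have form : ∀ g : G, g * φ k * g⁻¹ = φ k → ∃ y, g = s * φ y ∨ g = φ y := fun g hg => by
    obtain ⟨i', hi', h4⟩ := h.act g k k k0 hg
    rcases h3 i' hi' (h.inj ((h4 k).symm.trans hg)) with rfl | c
    · exact (h.exists_mul h4 hs).imp fun _ => .inl
    · exact (h.cent g fun x => by rw [h4, c]).imp fun _ c => .inr c.symm
  have ru : IsConj (s * φ k) (s * φ k)⁻¹ := by
    obtain ⟨n, hn⟩ := h.real j hj
    have nk : n * φ k * n⁻¹ = (φ k)⁻¹ := by rw [hn, hjk, h.neg]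
    have nk' : n * (φ k)⁻¹ * n⁻¹ = φ k := by rw [← conj_inv, nk, inv_inv]
    have nk2 : n⁻¹ * φ k * n = (φ k)⁻¹ := by
      calc _ = n⁻¹ * (n * (φ k)⁻¹ * n⁻¹) * n := by rw [nk']
        _ = _ := by group
    have t2 : n * s * n⁻¹ * (n * s * n⁻¹) = 1 := by rw [_root_.conj_mul, ss]; group
    obtain ⟨y, c | c⟩ := form (n * s * n⁻¹) (by
      rw [show n * s * n⁻¹ * φ k * (n * s * n⁻¹)⁻¹ = n * (s * (n⁻¹ * φ k * n) * s⁻¹) * n⁻¹ by group,
        nk2, cm.inv_right.eq, mul_inv_cancel_right, nk'])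
    · have y1 : s * φ y = (φ y)⁻¹ * s := by
        rw [c] at t2
        rw [eq_inv_mul_iff_mul_eq, ← mul_left_cancel_iff (a := s), ss, ← t2]; group
      refine isConj_iff.2 ⟨(φ y)⁻¹ * n, ?_⟩
      rw [show (φ y)⁻¹ * n * (s * φ k) * ((φ y)⁻¹ * n)⁻¹ =
        (φ y)⁻¹ * (n * s * n⁻¹) * (n * φ k * n⁻¹) * φ y by group, c, nk, ← h.neg, ← h.neg,
        mul_assoc _ (φ (-k)), h.comm (-k), mul_inv_rev, si, cm.inv_right.eq.symm, h.neg, h.neg,
        ← mul_assoc, ← mul_assoc, ← y1]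
      congr 1
      rw [mul_assoc, mul_assoc, ← mul_assoc (φ y), ← pow_three', h.cube, mul_one]
    · exfalso
      have : n * s * n⁻¹ = 1 := by
        have h5 := h.cube y
        rwa [← c, pow_three, t2, mul_one] at h5
      exact s1 0 (by rw [h.zero]; simpa [mul_inv_eq_one] using this)
  choose U hU using exists_int_six (u := s * φ k)
    (by rw [show 6 = 3 * 2 from rfl, pow_mul, g3, sq, ss]) ru
  refine ⟨_, U, hU, fun c => s1 0 (by rw [← g3, c, one_pow, h.zero]), ⟨_, ⟨1, 0, fun χ => by simp [hU]⟩, g4, by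
    simpa [g3] using fun c => s1 0 (c.trans h.zero.symm)⟩,
    by exact_mod_cast (hU _).symm.trans (irrOne_apply _), ?_, fun χ => ?_⟩
  · rw [sum_int_self hU, Int.natCast_inj, ← Fintype.card_subtype, ← Fintype.card_bool,
      ← Fintype.card_prod, ← Nat.card_eq_fintype_card]
    have c1 : ∀ y, e i y = y → Commute (φ y) (s * φ k) := fun y hy =>
      Commute.mul_right (Eq.symm (mul_inv_eq_iff_eq_mul.1 (by rw [hs, hy]))) (h.comm _ _)
    refine (Nat.card_eq_of_bijective (fun x : Bool × {x // e i x = x} =>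
      (⟨bif x.1 then s * φ x.2 else φ x.2, mem_centralizer_singleton_iff.2 (by
        cases x.1
        · exact c1 _ x.2.2
        · exact ((Commute.refl s).mul_right cm).mul_left (c1 _ x.2.2))⟩ :
        centralizer ({s * φ k} : Set G))) ⟨?_, fun g => ?_⟩).symm
    · rintro ⟨b, x⟩ ⟨b', y⟩ c
      have c := congrArg Subtype.val c
      cases b <;> cases b' <;> simp only [cond_true, cond_false] at c
      · exact Prod.ext rfl (Subtype.ext (h.inj c))
      · exact absurd (by rw [h.add, c, h.neg]; group) (s1 (x + -y))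
      · exact absurd (by rw [h.add, ← c, h.neg]; group) (s1 (y + -x))
      · exact Prod.ext rfl (Subtype.ext (h.inj (mul_left_cancel c)))
    · have hg : Commute g.1 (s * φ k) := mem_centralizer_singleton_iff.1 g.2
      have a3 := hg.pow_right 3
      have a4 := hg.pow_right 4
      rw [g3] at a3
      rw [g4] at a4
      obtain ⟨y, c | c⟩ := form g (mul_inv_eq_iff_eq_mul.2 a4)
      · refine ⟨(true, ⟨y, h.inj ?_⟩), Subtype.ext c.symm⟩
        rw [← hs, ← c, si, a3.eq, c, ← mul_assoc, ss, one_mul]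
      · refine ⟨(false, ⟨y, h.inj ?_⟩), Subtype.ext c.symm⟩
        rw [← hs, ← c, ← a3.eq, mul_inv_cancel_right]
  · exact dvd_sub_of_mul χ.2.isCharacter Nat.prime_two (u := s) (g := φ k)
      ⟨1, haveI := Fact.mk Nat.prime_two
        orderOf_eq_prime (p := 2) (by rw [sq, ss]) fun c => s1 0 (c.trans h.zero.symm)⟩ cm (hU χ) (hA χ)

/-- Multiplicities of linear characters. -/
theorem mult (l : K →+ ZMod 3) {w : ℂ} (hw : w ^ 2 + w + 1 = 0) (χ : IrrCharacter G) :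
    ∃ n : ℤ, ∑ k, χ.1 (φ k) * w ^ (l k).val = Fintype.card K * n := by
  have w3 : w ^ 3 = 1 := by linear_combination (w - 1) * hw
  have w0 : conj w ≠ 0 := fun c => by rw [map_eq_zero] at c; simp [c] at w3
  let f : Multiplicative K →* G := MonoidHom.mk' (fun k => φ k.toAdd) fun x y => h.add _ _
  let lam : Multiplicative K →* ℂˣ := MonoidHom.mk' (fun k => Units.mk0 _ w0 ^ (l k.toAdd).val)
    fun x y => Units.ext (by
      simp only [toAdd_mul, map_add, ZMod.val_add, Units.val_mul, Units.val_pow_eq_pow_val,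
        Units.val_mk0, ← pow_add]
      exact (pow_eq_pow_mod _ (by rw [← map_pow, w3, map_one])).symm)
  obtain ⟨n, hn⟩ := (χ.2.isCharacter.comp f).exists_nat_classInner
    (isIrrCharacter_hom lam).isCharacter
  refine ⟨n, ?_⟩
  rw [classInner, inv_mul_eq_iff_eq_mul₀ (by simp), Nat.card_eq_fintype_card,
    Fintype.card_multiplicative] at hn
  rw [Int.cast_natCast, ← hn]
  exact Fintype.sum_equiv Multiplicative.ofAdd _ _ fun k => by simp [f, lam]

/-- Class multiplication constants that can be read in the subgroup. -/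
theorem pairs (tri : ∀ x y k, orderOf x = 3 → orderOf y = 3 → k ≠ 0 → x * y = φ k →
      ((∃ k, φ k = x) ∧ ∃ k, φ k = y) ∨ (IsConj x y ∧ IsConj x⁻¹ (x * y))) (a b c : K)
    (hk : a ≠ 0 ∧ b ≠ 0 ∧ c ≠ 0 ∧ ((∀ i ∈ E, e i a ≠ b) ∨ ∀ i ∈ E, e i (-a) ≠ c)) :
    Nat.card {x : G × G // x.1 * φ a * x.1⁻¹ * (x.2 * φ b * x.2⁻¹) = φ c} =
      Fintype.card K * #(E.filter (e · a = a)) * (Fintype.card K * #(E.filter (e · b = b))) *
        #(univ.filter fun x : K => (∃ i ∈ E, e i a = x) ∧ ∃ i ∈ E, e i b = -x + c) := by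
  obtain ⟨a0, b0, c0, hk⟩ := hk
  rw [GW.card_conj_pairs, h.card_cent a0, h.card_cent b0]
  congr 1
  rw [← Fintype.card_subtype, ← Nat.card_eq_fintype_card]
  refine (Nat.card_eq_of_bijective (fun x : {x : K // (∃ i ∈ E, e i a = x) ∧ ∃ i ∈ E,
    e i b = -x + c} => (⟨φ x, (h.conj_iff a0).2 x.2.1, by
      rw [← h.neg, ← h.add]; exact (h.conj_iff b0).2 x.2.2⟩ :
      {y : G // IsConj (φ a) y ∧ IsConj (φ b) (y⁻¹ * φ c)}))
    ⟨fun x y c => Subtype.ext (h.inj (congrArg Subtype.val c)), fun ⟨y, h1, h2⟩ => ?_⟩).symm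
  have o : ∀ {k : K} {y : G}, k ≠ 0 → IsConj (φ k) y → orderOf y = 3 := fun hk c => by
    obtain ⟨u, rfl⟩ := isConj_iff.1 c
    rw [Small.orderOf_conj', h.ord hk]
  rcases tri y _ c (o a0 h1) (o b0 h2) c0 (by group) with ⟨⟨x, rfl⟩, -⟩ | ⟨h3, h4⟩
  · rw [← h.neg, ← h.add] at h2
    exact ⟨⟨x, (h.conj_iff a0).1 h1, (h.conj_iff b0).1 h2⟩, rfl⟩
  · exfalso
    rcases hk with hk | hk
    · obtain ⟨i, hi, c⟩ := (h.conj_iff a0).1 ((h1.trans h3).trans h2.symm)
      exact hk i hi c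
    · obtain ⟨u, rfl⟩ := isConj_iff.1 h1
      rw [mul_inv_cancel_left] at h4
      obtain ⟨i, hi, c⟩ := (h.conj_iff (neg_ne_zero.2 a0)).1 (IsConj.trans
        (isConj_iff.2 ⟨u, by rw [h.neg]; group⟩) h4)
      exact hk i hi c

end Mod

end Cfsg.Agent.Hig
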