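import Cfsg.Agent.Hig.V4

/-! Degree relations for all coordinates (`Mod.degrees`), multiplicities read from a table. -/

set_option autoImplicit false
set_option linter.unusedSectionVars false

namespace Cfsg.Agent.Hig

open Finset Subgroup Cfsg.Agent.Char Cfsg.Agent.Block Cfsg.Agent.Small
open scoped ComplexConjugate

variable {G : Type*} [Group G] [Finite G] {K ι : Type} [AddCommGroup K] [Fintype K]
  [DecidableEq K]

theorem sum_split {I R : Type*} [Fintype I] [AddCommMonoid R] {o : I} {X : ℕ → I} {n : ℕ}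
    {p : I → Prop} (h1 : ∀ i < n, X i ≠ o) (h2 : ∀ i < n, ∀ j < n, X i = X j → i = j)
    (h3 : ∀ x, x ≠ o → p x → ∃ i < n, X i = x) (F : I → R) (hF : ∀ x, ¬ p x → F x = 0) :
    ∑ x, F x = F o + ∑ i ∈ range n, F (X i) := by
  classical
  rw [← add_sum_erase _ _ (mem_univ o), ← sum_image (s := range n) (g := X) fun i hi j hj =>
    h2 i (by simpa using hi) j (by simpa using hj)]
  congr 1
  refine (sum_subset (fun x hx => ?_) fun x h4 h5 => hF x fun c => h5 ?_).symm
  · obtain ⟨i, hi, rfl⟩ := mem_image.1 hx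
    simpa using h1 i (mem_range.1 hi)
  · obtain ⟨i, hi, rfl⟩ := h3 x (ne_of_mem_erase h4) c
    exact mem_image_of_mem _ (mem_range.2 hi)

def co (l : K →+ ZMod 3) (rp : K → K) (r : K) : ℤ × ℤ :=
  (∑ k ∈ univ.filter (rp · = r), if l k = 0 then 1 else if l k = 1 then 0 else -1,
    ∑ k ∈ univ.filter (rp · = r), if l k = 0 then 0 else if l k = 1 then 1 else -1)

namespace Mod

variable {e : ι → K → K} {E : Finset ι} {φ : K → G} (h : Mod e E φ)
include h

theorem deg_sum {v : IrrCharacter G → ℤ} {l : K × Bool} (hv : Cl φ v l) (hl : l.1 ≠ 0) :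
    ∑ χ, v χ * charDegree χ.1 = 0 := by
  obtain ⟨g, ⟨a, c, h1⟩, h2, -⟩ := hv
  have g1 : g ≠ 1 := fun c => h.ne_one hl (by rw [← h2, c, one_pow])
  apply Int.cast_injective (α := ℂ)
  push_cast
  rw [sum_congr rfl (g := fun χ => a * (χ.1 1 * χ.1 g) + c * (χ.1 1 * χ.1 g⁻¹)) fun χ _ => by
    rw [h1, χ.2.apply_one_eq_charDegree]; ring, sum_add_distrib, ← mul_sum, ← mul_sum,
    sum_irr_degree_mul g1, sum_irr_degree_mul (inv_ne_one.2 g1)]
  simp

omit h in
theorem degrees {vs : List (IrrCharacter G → ℤ)} (hv : ∀ v ∈ vs, ∑ χ, v χ * charDegree χ.1 = 0)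
    {M : List (List ℤ)} {m : ℤ} (hm : m ≠ 0) (hM : ∀ r ∈ M, ∀ χ, m ∣ dot r (ty vs χ))
    {X : ℕ → IrrCharacter G} {s d : ℕ → ℤ} {sol : List (List ℤ)}
    (hn : ∀ i < sol.length, ∀ j < sol.length, sol.getD i [] = sol.getD j [] ∨
      sol.getD i [] = (sol.getD j []).map (-1 * ·) → i = j)
    (h1 : ∀ i, s i = 1 ∨ s i = -1) (h2 : ∀ i, d i = s i * charDegree (X i).1)
    (h3 : ∀ i < sol.length, X i ≠ irrOne G ∧
      (ty (coords vs M m) (X i)).map (s i * ·) = sol.getD i [])
    (h4 : ∀ χ, χ ≠ irrOne G → (∃ x ∈ ty (coords vs M m) χ, x ≠ 0) → ∃ i < sol.length, X i = χ)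
    (L : List ℤ) : dot L (ty (coords vs M m) (irrOne G)) +
      ∑ i ∈ range sol.length, d i * dot L (sol.getD i []) = 0 := by
  classical
  have k : ∑ χ, dot L (ty (coords vs M m) χ) * charDegree χ.1 = 0 := by
    refine (mul_eq_zero.1 ?_).resolve_left hm
    rw [mul_sum, sum_congr rfl fun χ _ => by
      rw [← mul_assoc, dot_coords χ L M fun r hr => hM r hr χ], sum_dot]
    refine dot_zero _ _ fun x hx => ?_
    obtain ⟨v, h5, rfl⟩ := List.mem_map.1 hx
    exact hv v h5
  rw [sum_split (fun i hi => (h3 i hi).1) (fun i hi j hj c => hn i hi j hj (by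
    rw [← (h3 i hi).2, ← (h3 j hj).2, c, List.map_map]
    rcases h1 i with a | a <;> rcases h1 j with b | b <;> simp [a, b, Function.comp_def])) h4 _
    fun χ c => by push Not at c; rw [dot_zero _ _ c, zero_mul], charDegree_irrOne] at k
  rw [← k]
  congr 1
  · simp
  · refine sum_congr rfl fun i hi => ?_
    rw [← (h3 i (mem_range.1 hi)).2, dot_smul, h2]
    rcases h1 i with a | a <;> rw [a] <;> ring

theorem mult_tab (l : K →+ ZMod 3) {w : ℂ} (hw : w ^ 2 + w + 1 = 0) {rp : K → K}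
    (hr : ∀ k, ∃ i ∈ E, e i (rp k) = k) {reps : List K} (h1 : reps.Nodup ∧ ∀ k, rp k ∈ reps)
    (T : List (ℤ × ℤ)) (hT : reps.map (co l rp) = T) (χ : IrrCharacter G) :
    ∃ n : ℤ, (List.zipWith (fun (c : ℤ × ℤ) r => (c.1 + c.2 * w) * χ.1 (φ r)) T reps).sum =
      Fintype.card K * n := by
  refine (h.mult l hw χ).imp fun n hn => ?_
  rw [← hn, ← hT, List.zipWith_map_left, List.zipWith_self, ← List.sum_toFinset _ h1.1,
    ← sum_fiberwise_of_maps_to (s := univ) (t := reps.toFinset) (g := rp)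
      (fun k _ => List.mem_toFinset.2 (h1.2 k)) fun k => χ.1 (φ k) * w ^ (l k).val]
  refine sum_congr rfl fun r _ => ?_
  simp only [co, Int.cast_sum, sum_mul, ← sum_add_distrib]
  refine sum_congr rfl fun k hk => ?_
  obtain ⟨i, hi, c⟩ := hr k
  rw [← (mem_filter.1 hk).2, χ.2.isClassFunction.apply_eq_of_isConj (h.isConj_of hi _), c, mul_comm]
  congr 1
  obtain e | e | e : l k = 0 ∨ l k = 1 ∨ l k = 2 := by generalize l k = j; revert j; decide
  · simp [e]
  · simp only [e, show ¬ (1 : ZMod 3) = 0 by decide, if_false, if_true,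
      show (1 : ZMod 3).val = 1 from rfl]
    simp
  · simp only [e, show ¬ (2 : ZMod 3) = 0 by decide, show ¬ (2 : ZMod 3) = 1 by decide, if_false,
      show (2 : ZMod 3).val = 2 from rfl]
    push_cast
    linear_combination -hw

end Mod

theorem exists_omega : ∃ w : ℂ, w ^ 2 + w + 1 = 0 := by
  obtain ⟨r, hr⟩ := IsAlgClosed.exists_pow_nat_eq (-3 : ℂ) two_pos
  exact ⟨(r - 1) / 2, by linear_combination hr / 4⟩

end Cfsg.Agent.Hig
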