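import Cfsg.Agent.Hig.S4M

/-! Character values on the special classes of `3³ : S₄`. -/

set_option autoImplicit false
set_option linter.unusedSectionVars false

namespace Cfsg.Agent.Hig

open Finset Subgroup Cfsg.Agent.Char Cfsg.Agent.Block Cfsg.Agent.Small
open scoped ComplexConjugate

variable {G : Type*} [Group G] [Finite G]

theorem cyc_mult {g : G} {n : ℕ} (hg : g ^ (n + 1) = 1) {ζ : ℂ} (hζ : ζ ^ (n + 1) = 1)
    (χ : IrrCharacter G) :
    ∃ m : ℤ, ∑ l ∈ range (n + 1), χ.1 (g ^ l) * ζ ^ l = (n + 1 : ℕ) * m := by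
  have w0 : conj ζ ≠ 0 := fun c => by rw [map_eq_zero] at c; simp [c] at hζ
  let f : Multiplicative (ZMod (n + 1)) →* G := MonoidHom.mk' (fun k => g ^ k.toAdd.val)
    fun x y => by rw [toAdd_mul, ZMod.val_add, ← pow_add]; exact (pow_eq_pow_mod _ hg).symm
  let lam : Multiplicative (ZMod (n + 1)) →* ℂˣ :=
    MonoidHom.mk' (fun k => Units.mk0 _ w0 ^ k.toAdd.val) fun x y => Units.ext (by
      simp only [toAdd_mul, ZMod.val_add, Units.val_mul, Units.val_pow_eq_pow_val,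
        Units.val_mk0, ← pow_add]
      exact (pow_eq_pow_mod _ (by rw [← map_pow, hζ, map_one])).symm)
  obtain ⟨m, hm⟩ := (χ.2.isCharacter.comp f).exists_nat_classInner
    (isIrrCharacter_hom lam).isCharacter
  refine ⟨m, ?_⟩
  rw [classInner, inv_mul_eq_iff_eq_mul₀ (by simp; exact_mod_cast n.succ_ne_zero),
    Nat.card_eq_fintype_card, Fintype.card_multiplicative, ZMod.card] at hm
  rw [Int.cast_natCast, ← hm, ← Fin.sum_univ_eq_sum_range (fun l => χ.1 (g ^ l) * ζ ^ l)]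
  exact Fintype.sum_equiv Multiplicative.ofAdd _ _ fun k => by simp [f, lam]; rfl

def gs : Fin 9 → Q4 := ![((1, 0, 0), 0), ((1, 0, 0), 21), ((1, 0, 0), 6), ((1, 0, 0), 19),
  ((1, 1, 0), 0), ((1, 1, 0), 3), ((1, 1, 1), 0), ((1, 0, 0), 1), ((2, 0, 0), 1)]

def cs : Fin 9 → ℕ := ![108, 12, 12, 12, 54, 6, 81, 9, 9]

def ms (i : Fin 9) : ℕ := if 7 ≤ i then 12 else 4

theorem gs_cn : ∀ i, cn (gs i) = cs i ∧ ((qp (gs i) (ms i)).2 = 0 ∧ (qp (gs i) (ms i)).1 ≠ 0) ∧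
    gs i ≠ (0, 0) ∧ qp (gs i) 36 = (0, 0) ∧ ∃ r, qm r (gs i) = qm (qp (gs i) 35) r := by
  decide +kernel

theorem gs_nc : ∀ i j, j < i → (qp (gs j) (ms i)).2 = 0 ∧ ∀ r, qm r (gs i) ≠ qm (gs j) r := by
  decide +kernel

def Rt (p : Q4) (n : ℕ) : Prop := 0 < n ∧ qp p n = (0, 0) ∧ (∀ m < n, 0 < m → qp p m ≠ (0, 0)) ∧
  ∀ m < n, m.Coprime n → ∃ r, qm r p = qm (qp p m) r

set_option synthInstance.maxSize 2000 in
instance decRt (p : Q4) (n : ℕ) : Decidable (Rt p n) := by unfold Rt; infer_instance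

def Sup (el : Q4 → G) (v : IrrCharacter G → ℤ) (l : Fin 9 × Fin 9) : Prop :=
  ∃ a b : ℂ, ∀ χ : IrrCharacter G, (v χ : ℂ) = a * χ.1 (el (gs l.1)) + b * χ.1 (el (gs l.2))

def rp4 (x : K3) : K3 := [0, (1, 0, 0), (1, 1, 0), (1, 1, 1)].getD (wt x) 0

namespace Sd

variable {el : Q4 → G} (h : Sd el)
include h

theorem orth (i j : Fin 9) : ∑ χ : IrrCharacter G, χ.1 (el (gs i)) * χ.1 (el (gs j)) =
    if i = j then (cs i : ℂ) else 0 := by
  have re : ∀ χ : IrrCharacter G, χ.1 (el (gs j)) = conj (χ.1 (el (gs j))) := fun χ => by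
    rw [← χ.2.apply_inv, χ.2.isClassFunction.apply_eq_of_isConj (h.conj_of (gs_cn j).2.2.2.2),
      h.pow, eq_inv_of_mul_eq_one_left (a := el (gs j) ^ 35) (by
        rw [← pow_succ, ← h.pow, (gs_cn j).2.2.2.1, h.one])]
  rw [sum_congr rfl fun χ _ => by rw [re χ]]
  split_ifs with c
  · rw [c, sum_irr_mul_conj_of_isConj (IsConj.refl _), h.card_cent _ (gs_cn j).2.1, (gs_cn j).1]
  have k : ∀ i j, j < i → ¬ IsConj (el (gs i)) (el (gs j)) := fun i j hj c =>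
    let ⟨r, hr⟩ := h.conj_iff _ ⟨(gs_cn i).2.1.1, (gs_cn i).2.1.2, (gs_nc i j hj).1⟩ c
    (gs_nc i j hj).2 r hr
  exact sum_irr_mul_conj_of_not_isConj fun e => (lt_or_gt_of_ne c).elim
    (fun c => k _ _ c e.symm) fun c => k _ _ c e

theorem s2 {u v : IrrCharacter G → ℤ} {i j k l : Fin 9} {a b c d : ℂ}
    (hu : ∀ χ : IrrCharacter G, (u χ : ℂ) = a * χ.1 (el (gs i)) + b * χ.1 (el (gs j)))
    (hv : ∀ χ : IrrCharacter G, (v χ : ℂ) = c * χ.1 (el (gs k)) + d * χ.1 (el (gs l))) {n : ℤ}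
    (e : a * c * (if i = k then (cs i : ℂ) else 0) + a * d * (if i = l then (cs i : ℂ) else 0) +
      b * c * (if j = k then (cs j : ℂ) else 0) + b * d * (if j = l then (cs j : ℂ) else 0) = n) :
    ∑ χ, u χ * v χ = n := by
  apply Int.cast_injective (α := ℂ)
  rw [← e, ← h.orth, ← h.orth, ← h.orth, ← h.orth]
  simp only [Int.cast_sum, Int.cast_mul, hu, hv, mul_sum, ← sum_add_distrib]
  exact sum_congr rfl fun χ _ => by ring

theorem sup_orth {u v : IrrCharacter G → ℤ} {l l' : Fin 9 × Fin 9} (hu : Sup el u l)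
    (hv : Sup el v l') (e : l.1 ≠ l'.1 ∧ l.1 ≠ l'.2 ∧ l.2 ≠ l'.1 ∧ l.2 ≠ l'.2) :
    ∑ χ, u χ * v χ = 0 :=
  let ⟨_, _, hu⟩ := hu
  let ⟨_, _, hv⟩ := hv
  h.s2 hu hv (by simp [e])

theorem sup_deg {u : IrrCharacter G → ℤ} {l : Fin 9 × Fin 9} (hu : Sup el u l) :
    ∑ χ, u χ * charDegree χ.1 = 0 := by
  obtain ⟨a, b, hu⟩ := hu
  have g1 : ∀ i, el (gs i) ≠ 1 := fun i c => (gs_cn i).2.2.1 (h.inj (c.trans h.one.symm))
  apply Int.cast_injective (α := ℂ)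
  push_cast
  rw [sum_congr rfl (g := fun χ => a * (χ.1 1 * χ.1 (el (gs l.1))) + b * (χ.1 1 *
    χ.1 (el (gs l.2)))) fun χ _ => by rw [hu, χ.2.apply_one_eq_charDegree]; ring, sum_add_distrib,
    ← mul_sum, ← mul_sum, sum_irr_degree_mul (g1 _), sum_irr_degree_mul (g1 _)]
  simp

theorem ord {p : Q4} {n : ℕ} (hn : Rt p n) : orderOf (el p) = n :=
  (orderOf_eq_iff hn.1).2 ⟨by rw [← h.pow, hn.2.1, h.one], fun m h1 h2 c =>
    hn.2.2.1 m h1 h2 (h.inj (by rw [h.pow, c, h.one]))⟩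

theorem val (i : Fin 9) (n : ℕ) (hn : Rt (gs i) n) : ∃ A : IrrCharacter G → ℤ,
    (∀ χ : IrrCharacter G, χ.1 (el (gs i)) = A χ) ∧ Sup el A (i, i) ∧ A (irrOne G) = 1 ∧
      ∑ χ, A χ * A χ = cs i := by
  choose A hA using fun χ : IrrCharacter G =>
    χ.2.isCharacter.isGeneralizedCharacter.exists_int_of_forall_pow (g := el (gs i)) fun m hm => by
      rw [← pow_mod_orderOf, h.ord hn, ← h.pow, eq_comm]
      exact χ.2.isClassFunction.apply_eq_of_isConj (h.conj_of (hn.2.2.2 _ (Nat.mod_lt _ hn.1)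
        (by rwa [Nat.Coprime, ← Nat.gcd_rec, Nat.gcd_comm, ← h.ord hn])))
  refine ⟨A, hA, ⟨1, 0, fun χ => by simp [hA]⟩, by exact_mod_cast (hA _).symm.trans (irrOne_apply _),
    ?_⟩
  rw [sum_int_self hA, h.card_cent _ (gs_cn i).2.1, (gs_cn i).1]

set_option synthInstance.maxSize 2000 in
theorem jmult {χ : IrrCharacter G} {A B C : ℤ} (hA : χ.1 (el (gs 0)) = A)
    (hB : χ.1 (el (gs 4)) = B) (hC : χ.1 (el (gs 6)) = C) :
    27 ∣ charDegree χ.1 + 6 * A + 12 * B + 8 * C ∧ 9 ∣ A + 4 * B + 4 * C ∧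
      9 ∣ 2 * A + 5 * B + 2 * C := by
  obtain ⟨w, hw⟩ := exists_omega
  have k := fun c T hT => h.mod.mult_tab (lin3 c) hw (rp := rp4) (by decide +kernel)
    (reps := [0, (1, 0, 0), (1, 1, 0), (1, 1, 1)]) (by decide +kernel) T hT χ
  obtain ⟨m0, h0⟩ := k (0, 0, 0) [(1, 0), (6, 0), (12, 0), (8, 0)] (by decide +kernel)
  obtain ⟨m1, h1⟩ := k (1, 0, 0) [(1, 0), (3, 0), (0, 0), (-4, 0)] (by decide +kernel)
  obtain ⟨m2, h2⟩ := k (1, 1, 0) [(1, 0), (0, 0), (-3, 0), (2, 0)] (by decide +kernel)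
  simp only [List.zipWith_cons_cons, List.zipWith_nil_left, List.sum_cons, List.sum_nil,
    show el ((1, 0, 0), 0) = el (gs 0) from rfl, show el ((1, 1, 0), 0) = el (gs 4) from rfl,
    show el ((1, 1, 1), 0) = el (gs 6) from rfl, hA, hB, hC, h.one,
    χ.2.apply_one_eq_charDegree, show Fintype.card K3 = 27 from rfl] at h0 h1 h2
  push_cast at h0 h1 h2
  have c : ∀ {a b : ℤ}, (a : ℂ) = b → a = b := fun h => Int.cast_injective h
  refine ⟨⟨m0, c ?_⟩, ⟨m0 - m1, c ?_⟩, ⟨m0 - m2, c ?_⟩⟩ <;> push_cast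
  · linear_combination h0
  · linear_combination (h0 - h1) / 3
  · linear_combination (h0 - h2) / 3

theorem twelve {w : ℂ} (hw : w ^ 2 + w + 1 = 0) {χ : IrrCharacter G} {A U : ℤ}
    (hA : χ.1 (el (gs 0)) = A) (hU : χ.1 (el (gs 1)) = U) : ∃ x y : ℤ,
      (x : ℂ) = 1 / 2 * χ.1 (el (gs 2)) + 1 / 2 * χ.1 (el (gs 3)) ∧
      (y : ℂ) = Complex.I * (1 + 2 * w) / 6 * χ.1 (el (gs 2)) +
        -(Complex.I * (1 + 2 * w) / 6) * χ.1 (el (gs 3)) ∧ 4 ∣ A + U + 2 * x ∧ 4 ∣ A - U + 2 * y := by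
  have w3 : w ^ 3 = 1 := by linear_combination (w - 1) * hw
  have g12 : el (gs 2) ^ (11 + 1) = 1 := by
    rw [← h.pow, show qp (gs 2) (11 + 1) = (0, 0) by decide +kernel, h.one]
  have v : ∀ l i, (∃ r, qm r (qp (gs 2) l) = qm (gs i) r) →
      χ.1 (el (gs 2) ^ l) = χ.1 (el (gs i)) := fun l i c => by
    rw [← h.pow]; exact χ.2.isClassFunction.apply_eq_of_isConj (h.conj_of c)
  have k : ∀ u : ℂ, u ^ 4 = 1 → ∃ z : ℤ, 4 * (z : ℂ) = A + U * u ^ 2 +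
      ((u * (1 - w) + u ^ 3 * (1 - w ^ 2)) * χ.1 (el (gs 2)) +
        (u * (1 - w ^ 2) + u ^ 3 * (1 - w)) * χ.1 (el (gs 3))) / 3 := fun u hu => by
    have k : ∀ t : ℂ, t ^ 3 = 1 → ∃ m : ℤ, ∑ l ∈ range 12, χ.1 (el (gs 2) ^ l) *
        (t ^ (l % 3) * u ^ (l % 4)) = 12 * m := fun t ht => by
      obtain ⟨m, hm⟩ := cyc_mult g12 (ζ := t * u) (by
        rw [mul_pow, show 11 + 1 = 3 * 4 from rfl, pow_mul, ht, mul_comm 3, pow_mul, hu]; simp) χ
      exact ⟨m, by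
        simpa only [mul_pow, ← pow_eq_pow_mod _ ht, ← pow_eq_pow_mod _ hu, Nat.cast_ofNat,
          Nat.reduceAdd] using hm⟩
    obtain ⟨m0, h0⟩ := k 1 (by simp)
    obtain ⟨m1, h1⟩ := k w w3
    simp only [sum_range_succ, sum_range_zero, Nat.reduceMod, v 1 2 (by decide +kernel),
      v 2 1 (by decide +kernel), v 4 0 (by decide +kernel), v 5 3 (by decide +kernel),
      v 7 3 (by decide +kernel), v 8 0 (by decide +kernel), v 10 1 (by decide +kernel),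
      v 11 2 (by decide +kernel), hA, hU] at h0 h1
    exact ⟨m0 - m1, by
      push_cast; linear_combination (h1 - h0) / 3 - (A + U * u ^ 2) / 3 * hw⟩
  obtain ⟨z0, e0⟩ := k 1 (by simp)
  obtain ⟨z2, e2⟩ := k (-1) (by norm_num)
  obtain ⟨z1, e1⟩ := k Complex.I Complex.I_pow_four
  obtain ⟨z3, e3⟩ := k (-Complex.I) (by rw [neg_pow, Complex.I_pow_four]; norm_num)
  have i2 := Complex.I_sq
  have c : ∀ {a b : ℤ}, (a : ℂ) = b → a = b := fun h => Int.cast_injective h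
  refine ⟨z0 - z2, z3 - z1, ?_, ?_, ⟨z0, c ?_⟩, ⟨z3, c ?_⟩⟩ <;> push_cast
  · linear_combination (e0 - e2) / 4 - (χ.1 (el (gs 2)) + χ.1 (el (gs 3))) / 6 * hw
  · linear_combination (e3 - e1) / 4 - Complex.I / 6 * (χ.1 (el (gs 2)) - χ.1 (el (gs 3))) * hw -
      Complex.I * ((1 - w ^ 2) * χ.1 (el (gs 2)) + (1 - w) * χ.1 (el (gs 3))) / 6 * i2
  · linear_combination -(e0 + e2) / 2
  · linear_combination -(e1 + e3) / 2 - U * i2

end Sd

end Cfsg.Agent.Hig
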