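import Cfsg.Agent.Hig.E27

/-! The Gram search for `3³ : S₄`. -/

set_option autoImplicit false

namespace Cfsg.Agent.Hig

def s4G : List (List ℤ) :=
  [[4, 1, 1, 1, 1, -1, 1, -1, 0], [1, 4, 1, 1, 1, -1, 1, -1, 0], [1, 1, 4, 1, 1, 1, 1, 0, 0], [1,
  1, 1, 4, 1, 1, 1, 0, 0], [1, 1, 1, 1, 4, 1, -1, 0, -1], [-1, -1, 1, 1, 1, 3, -1, 1, -1], [1, 1,
  1, 1, -1, -1, 3, 0, 1], [-1, -1, 0, 0, 0, 1, 0, 2, 0], [0, 0, 0, 0, -1, -1, 1, 0, 2]]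

def s4V : List (List (List ℤ) × List (List ℤ) × List ℤ) :=
  [([[43, 2, 3, -12, -1, 13, -12, 16, 12], [2, 40, -18, -6, -20, 26, -6, 8, 6], [3, -18, 51, 4,
  9, -39, -22, 12, -4], [-12, -6, 4, 36, -10, -26, -16, 4, -10], [-1, -20, 9, -10, 49, -13, 16,
  -4, 10], [13, 26, -39, -26, -13, 91, 26, -26, 26], [-12, -6, -22, -16, 16, 26, 62, -22, -10],
  [16, 8, 12, 4, -4, -26, -22, 64, -4], [12, 6, -4, -10, 10, 26, -10, -4, 62]], [[4, 1, 1, 1, 1,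
  -1, 1, -1, 0], [1, 4, 1, 1, 1, -1, 1, -1, 0], [1, 1, 4, 1, 1, 1, 1, 0, 0], [1, 1, 1, 4, 1, 1,
  1, 0, 0], [1, 1, 1, 1, 4, 1, -1, 0, -1], [-1, -1, 1, 1, 1, 3, -1, 1, -1], [1, 1, 1, 1, -1, -1,
  3, 0, 1], [-1, -1, 0, 0, 0, 1, 0, 2, 0], [0, 0, 0, 0, -1, -1, 1, 0, 2]], [-1, 0, -1, 0, -1, 0,
  0, 0, 0]), ([[66, -30, -9, -33, 42, -9, 12, 9], [-30, 84, 8, 15, -66, -35, 18, -8], [-9, 8, 54,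
  -17, -37, -32, 14, -11], [-33, 15, -17, 81, -21, 26, -6, 17], [42, -66, -37, -21, 144, 49, -51,
  37], [-9, -35, -32, 26, 49, 97, -29, -11], [12, 18, 14, -6, -51, -29, 96, -14], [9, -8, -11,
  17, 37, -11, -14, 97]], [[4, 1, 1, 1, -1, 1, -1, 0], [1, 4, 1, 1, 1, 1, 0, 0], [1, 1, 4, 1, 1,
  1, 0, 0], [1, 1, 1, 4, 1, -1, 0, -1], [-1, 1, 1, 1, 3, -1, 1, -1], [1, 1, 1, -1, -1, 3, 0, 1],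
  [-1, 0, 0, 0, 1, 0, 2, 0], [0, 0, 0, -1, -1, 1, 0, 2]], [0, -1, 0, -1, 0, 0, 0, 0]), ([[36, 2,
  0, -24, -20, 12, -2], [2, 27, -11, -16, -17, 8, -5], [0, -11, 33, 0, 11, 0, 11], [-24, -16, 0,
  60, 28, -30, 16], [-20, -17, 11, 28, 49, -14, -5], [12, 8, 0, -30, -14, 48, -8], [-2, -5, 11,
  16, -5, -8, 49]], [[4, 1, 1, 1, 1, 0, 0], [1, 4, 1, 1, 1, 0, 0], [1, 1, 4, 1, -1, 0, -1], [1,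
  1, 1, 3, -1, 1, -1], [1, 1, -1, -1, 3, 0, 1], [0, 0, 0, 1, 0, 2, 0], [0, 0, -1, -1, 1, 0, 2]],
  [-1, 0, -1, 0, 0, 0, 0]), ([[22, -9, -12, -13, 6, -4], [-9, 27, 0, 9, 0, 9], [-12, 0, 36, 12,
  -18, 12], [-13, 9, 12, 31, -6, -5], [6, 0, -18, -6, 36, -6], [-4, 9, 12, -5, -6, 40]], [[4, 1,
  1, 1, 0, 0], [1, 4, 1, -1, 0, -1], [1, 1, 3, -1, 1, -1], [1, -1, -1, 3, 0, 1], [0, 0, 1, 0, 2,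
  0], [0, -1, -1, 1, 0, 2]], [0, -1, 0, 0, 0, 0]), ([[19, -4, 3, 2, 6], [-4, 24, 4, -12, 8], [3,
  4, 19, -2, -6], [2, -12, -2, 28, -4], [6, 8, -6, -4, 32]], [[4, 1, -1, 0, -1], [1, 3, -1, 1,
  -1], [-1, -1, 3, 0, 1], [0, 1, 0, 2, 0], [-1, -1, 1, 0, 2]], [-1, 0, 0, 0, 0]), ([[10, 2, -5,
  4], [2, 8, -1, -3], [-5, -1, 12, -2], [4, -3, -2, 13]], [[3, -1, 1, -1], [-1, 3, 0, 1], [1, 0,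
  2, 0], [-1, 1, 0, 2]], [0, 0, 0, 0]), ([[4, 0, -2], [0, 5, 0], [-2, 0, 6]], [[3, 0, 1], [0, 2,
  0], [1, 0, 2]], [0, 0, 0]), ([[1, 0], [0, 1]], [[2, 0], [0, 2]], [0, 0]), ([[1]], [[2]], [0])]

def s4F : List (ℕ × List ℤ) :=
  [(2, [0, 0, 0, 0, 0, 0, 0, 0, 1]), (3, [0, 0, 0, 0, 0, 0, 0, 1]), (5, [0, 0, 0, 0, 0, 0, 1, 0,
  -1]), (7, [0, 0, 0, 0, 0, 0, 1]), (11, [0, 0, 0, 0, 0, 1, 0, -1]), (13, [0, 0, 0, 0, 0, 1, 0,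
  -1, 1]), (17, [0, 0, 0, 0, 0, 1]), (19, [0, 0, 0, 0, 0, 1, 0, 0, 1]), (23, [0, 0, 0, 0, 0, 0,
  0, 1, -1]), (29, [0, 0, 0, 0, 0, 0, 0, 1, 1]), (31, [0, 0, 0, 0, 0, 1, 1, -1]), (37, [0, 0, 0,
  0, 0, 1, 1]), (41, [0, 0, 0, 0, 1]), (43, [0, 0, 0, 0, 1, 0, 0, 0, 1]), (47, [0, 0, 0, 1, 0,
  -1, -1]), (53, [0, 0, 0, 1, 0, -1, -1, 1]), (59, [0, 0, 0, 1]), (61, [0, 0, 1, 0, 0, -1, -1]),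
  (67, [0, 0, 1, 0, 0, -1, -1, 1]), (71, [0, 0, 1]), (73, [0, 1]), (79, [0, 1, 0, 0, 0, 0, 0,
  1]), (83, [1]), (89, [1, 0, 0, 0, 0, 0, 0, 1]), (97, [1, 1]), (101, [-1, 1]), (103, [1, 0, 1]),
  (107, [-1, 0, 1]), (109, [0, 1, 1]), (113, [0, -1, 1]), (127, [1, 0, 0, 1]), (131, [-1, 0, 0,
  1]), (137, [0, 1, 0, 1]), (139, [0, -1, 0, 1]), (149, [0, 0, 1, 1]), (151, [0, 0, -1, 1]),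
  (157, [1, 0, 0, 0, 1]), (163, [-1, 0, 0, 0, 1]), (167, [0, 1, 0, 0, 1]), (173, [0, -1, 0, 0,
  1]), (179, [0, 0, 1, 0, 1]), (181, [0, 0, -1, 0, 1]), (191, [0, 0, 0, 1, 1]), (193, [0, 0, 0,
  -1, 1]), (197, [1, 0, 0, 0, 0, 1]), (199, [-1, 0, 0, 0, 0, 1]), (211, [0, 1, 0, 0, 0, 1]),
  (223, [0, -1, 0, 0, 0, 1]), (227, [0, 0, 1, 0, 0, 1]), (229, [0, 0, -1, 0, 0, 1]), (233, [0, 0,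
  0, 1, 0, 1]), (239, [0, 0, 0, -1, 0, 1]), (241, [0, 0, 0, 0, 1, 1]), (251, [0, 0, 0, 0, -1,
  1]), (257, [1, 0, 0, 0, 0, 0, 1]), (263, [-1, 0, 0, 0, 0, 0, 1]), (269, [0, 1, 0, 0, 0, 0, 1]),
  (271, [0, -1, 0, 0, 0, 0, 1]), (277, [0, 0, 1, 0, 0, 0, 1]), (281, [0, 0, -1, 0, 0, 0, 1]),
  (283, [0, 0, 0, 1, 0, 0, 1]), (293, [0, 0, 0, -1, 0, 0, 1]), (307, [0, 0, 0, 0, 1, 0, 1]),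
  (311, [0, 0, 0, 0, -1, 0, 1]), (313, [0, 0, 0, 0, 0, -1, 1]), (317, [-1, 0, 0, 0, 0, 0, 0, 1]),
  (331, [0, -1, 0, 0, 0, 0, 0, 1]), (337, [0, 0, 1, 0, 0, 0, 0, 1]), (347, [0, 0, -1, 0, 0, 0, 0,
  1]), (349, [0, 0, 0, 1, 0, 0, 0, 1]), (353, [0, 0, 0, -1, 0, 0, 0, 1]), (359, [0, 0, 0, 0, 1,
  0, 0, 1]), (367, [0, 0, 0, 0, -1, 0, 0, 1]), (373, [0, 0, 0, 0, 0, 1, 0, 1]), (379, [0, 0, 0,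
  0, 0, 0, 1, 1]), (383, [0, 0, 0, 0, 0, 0, -1, 1]), (389, [1, 0, 0, 0, 0, 0, 0, 0, 1]), (397,
  [-1, 0, 0, 0, 0, 0, 0, 0, 1]), (401, [0, 1, 0, 0, 0, 0, 0, 0, 1]), (409, [0, -1, 0, 0, 0, 0, 0,
  0, 1]), (419, [0, 0, 1, 0, 0, 0, 0, 0, 1]), (421, [0, 0, -1, 0, 0, 0, 0, 0, 1]), (431, [0, 0,
  0, 1, 0, 0, 0, 0, 1]), (433, [0, 0, 0, -1, 0, 0, 0, 0, 1]), (439, [0, 0, 0, 0, -1, 0, 0, 0,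
  1]), (443, [0, 0, 0, 0, 0, -1, 0, 0, 1]), (449, [0, 0, 0, 0, 0, 0, 1, 0, 1])]

def s4M : List (List ℤ) :=
  [[0, 0, 0, 0, -6, -18, 0, -12, 0], [0, 0, 0, 0, -6, 18, 0, -12, 0], [-1, -9, -18, 0, -4, 0, -4,
  0, 0], [-1, -9, 18, 0, -4, 0, -4, 0, 0], [-3, -9, 0, 18, 0, 0, 0, -12, -12], [-3, -9, 0, 18, 0,
  0, 0, 12, 0], [-1, 9, 0, -18, -4, 0, -4, 0, 0], [0, 0, 0, 0, 0, 0, 0, 12, -12], [0, 0, 0, -36,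
  0, 0, 0, 0, 0]]

def s4S0 : List (List ℤ) :=
  [[0, 0, 0, 0, 1, 1, -1, 0, -1], [0, 0, 0, 0, 0, 0, 0, 0, 1], [1, 1, 0, 0, 0, -1, 0, -1, 0], [0,
  0, 0, 0, 0, 0, 0, 1, 0], [0, 1, 1, 0, 0, 0, 1, 0, 0], [1, 0, 0, 1, 0, 0, 1, 0, 0], [0, 0, 1, 1,
  0, 1, 0, 0, 0], [0, 0, 0, 0, 1, 0, 0, 0, 0], [0, 1, 0, 1, 1, 0, 0, 0, 0], [0, 0, 0, 1, 0, 0, 0,
  0, 0], [0, 0, 1, 0, 0, 0, 0, 0, 0], [0, 1, 0, 0, 0, 0, 0, 0, 0], [1, 0, 0, 0, 0, 0, 0, 0, 0]]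

def s4S1 : List (List ℤ) :=
  [[0, 0, 0, 0, 1, 1, -1, 0, -1], [0, 0, 0, 0, 0, 0, 0, 0, 1], [1, 1, 0, 0, 0, -1, 0, -1, 0], [0,
  0, 0, 0, 0, 0, 0, 1, 0], [0, 1, 1, 0, 0, 0, 1, 0, 0], [1, 0, 0, 1, 0, 0, 1, 0, 0], [0, 0, 1, 1,
  0, 1, 0, 0, 0], [0, 1, 0, 0, 1, 0, 0, 0, 0], [0, 0, 0, 1, 1, 0, 0, 0, 0], [0, 1, 0, 1, 0, 0, 0,
  0, 0], [0, 0, 1, 0, 0, 0, 0, 0, 0], [1, 0, 0, 0, 0, 0, 0, 0, 0]]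

def s4S2 : List (List ℤ) :=
  [[0, 0, 0, 1, 1, 1, -1, 0, -1], [0, 0, 0, 1, 0, 0, 0, 0, 1], [0, 1, 0, 0, 0, -1, 0, -1, 0], [1,
  0, 0, 0, 0, 0, 0, -1, 0], [0, 0, 0, 1, 0, 0, 1, 0, 0], [1, 1, 1, 1, 0, 0, 1, 0, 0], [1, 0, -1,
  0, 0, -1, 0, 0, 0], [0, 0, 0, 0, 1, 0, 0, 0, 0], [0, 1, 0, 0, 1, 0, 0, 0, 0], [0, 0, 1, 0, 0,
  0, 0, 0, 0], [0, 1, 0, 0, 0, 0, 0, 0, 0]]

def s4S3 : List (List ℤ) :=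
  [[0, 0, 0, 1, 1, 1, -1, 0, -1], [0, 0, 0, 1, 0, 0, 0, 0, 1], [1, 1, 0, 0, 0, -1, 0, -1, 0], [0,
  0, 0, 0, 0, 0, 0, 1, 0], [1, 0, 0, 1, 0, 0, 1, 0, 0], [0, 1, 1, 1, 0, 0, 1, 0, 0], [0, 0, 1, 0,
  0, 1, 0, 0, 0], [0, 0, 0, 0, 1, 0, 0, 0, 0], [0, 1, 0, 0, 1, 0, 0, 0, 0], [0, 0, 1, 0, 0, 0, 0,
  0, 0], [0, 1, 0, 0, 0, 0, 0, 0, 0], [1, 0, 0, 0, 0, 0, 0, 0, 0]]

theorem s4_check : check s4G [-1, 0, -1, 0, -1, 0, 0, 0, 0] 2 [-2, -1, 0, 1, 2] s4V s4F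
    [2, 3, 5, 7, 11, 13, 17, 19, 23, 29, 31, 37, 41, 43, 47, 53, 59, 61, 67, 71, 73, 79, 83, 89, 97, 101, 103, 107, 109, 113, 127, 131, 137, 139, 149, 151, 157, 163, 167, 173, 179, 181, 191, 193, 197, 199, 211, 223, 227, 229, 233, 239, 241, 251, 257, 263, 269, 271, 277, 281, 283, 293, 307, 311, 313, 317, 331, 337, 347, 349, 353, 359, 367, 373, 379, 383, 389, 397, 401, 409, 419, 421, 431, 433, 439, 443, 449]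
    (fun _ => true) [s4S0, s4S1, s4S2, s4S3] = true := by
  decide +kernel

end Cfsg.Agent.Hig
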