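import Cfsg.Agent.Hig.S4D
import Cfsg.Agent.Invol.Basic

/-! The model of `3³ : S₄` inside a finite group, with strongly closed `3³`. -/

set_option autoImplicit false
set_option linter.unusedSectionVars false

namespace Cfsg.Agent.Hig

open Finset Subgroup Cfsg.Agent.Char Cfsg.Agent.Block Cfsg.Agent.Small
open scoped ComplexConjugate

def s4mat : List (K3 × K3 × K3) :=
  [((1, 0, 0), (0, 1, 0), (0, 0, 1)), ((0, 0, 1), (1, 0, 0), (0, 1, 0)), ((2, 0, 0), (0, 2, 0),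
  (0, 0, 1)), ((0, 1, 0), (1, 0, 0), (0, 0, 2)), ((0, 1, 0), (0, 0, 1), (1, 0, 0)), ((0, 0, 2),
  (2, 0, 0), (0, 1, 0)), ((1, 0, 0), (0, 0, 1), (0, 2, 0)), ((0, 0, 1), (2, 0, 0), (0, 2, 0)),
  ((0, 2, 0), (2, 0, 0), (0, 0, 2)), ((0, 0, 2), (0, 1, 0), (1, 0, 0)), ((0, 2, 0), (0, 0, 2), (1,
  0, 0)), ((0, 0, 1), (0, 1, 0), (2, 0, 0)), ((0, 1, 0), (0, 0, 2), (2, 0, 0)), ((2, 0, 0), (0, 0,
  2), (0, 2, 0)), ((0, 2, 0), (1, 0, 0), (0, 0, 1)), ((0, 2, 0), (0, 0, 1), (2, 0, 0)), ((0, 0,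
  2), (1, 0, 0), (0, 2, 0)), ((2, 0, 0), (0, 0, 1), (0, 1, 0)), ((0, 0, 2), (0, 2, 0), (2, 0, 0)),
  ((1, 0, 0), (0, 0, 2), (0, 1, 0)), ((0, 0, 1), (0, 2, 0), (1, 0, 0)), ((1, 0, 0), (0, 2, 0), (0,
  0, 2)), ((2, 0, 0), (0, 1, 0), (0, 0, 2)), ((0, 1, 0), (2, 0, 0), (0, 0, 1))]

def s4mu : List (List (Fin 24)) :=
  [[0, 1, 2, 3, 4, 5, 6, 7, 8, 9, 10, 11, 12, 13, 14, 15, 16, 17, 18, 19, 20, 21, 22, 23], [1, 4,
  7, 9, 0, 12, 14, 15, 18, 19, 21, 17, 22, 8, 20, 2, 10, 23, 13, 3, 6, 16, 5, 11], [2, 5, 0, 8,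
  10, 1, 13, 16, 3, 20, 4, 18, 15, 6, 23, 12, 7, 19, 11, 17, 9, 22, 21, 14], [3, 6, 8, 0, 11, 13,
  1, 17, 2, 12, 18, 4, 9, 5, 21, 20, 19, 7, 10, 16, 15, 14, 23, 22], [4, 0, 15, 19, 1, 22, 20, 2,
  13, 3, 16, 23, 5, 18, 6, 7, 21, 11, 8, 9, 14, 10, 12, 17], [5, 10, 16, 20, 2, 15, 23, 12, 11,
  17, 22, 19, 21, 3, 9, 0, 4, 14, 6, 8, 13, 7, 1, 18], [6, 11, 17, 12, 3, 9, 21, 20, 10, 16, 14,
  7, 23, 2, 15, 8, 18, 22, 5, 0, 1, 19, 13, 4], [7, 12, 1, 18, 21, 4, 8, 10, 9, 6, 0, 13, 2, 14,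
  11, 22, 15, 3, 17, 23, 19, 5, 16, 20], [8, 13, 3, 2, 18, 6, 5, 19, 0, 15, 11, 10, 20, 1, 22, 9,
  17, 16, 4, 7, 12, 23, 14, 21], [9, 14, 18, 1, 17, 8, 4, 23, 7, 22, 13, 0, 19, 12, 16, 6, 3, 15,
  21, 10, 2, 20, 11, 5], [10, 2, 12, 17, 5, 21, 9, 0, 6, 8, 7, 14, 1, 11, 13, 16, 22, 18, 3, 20,
  23, 4, 15, 19], [11, 3, 20, 16, 6, 23, 15, 8, 5, 0, 19, 22, 13, 10, 1, 17, 14, 4, 2, 12, 21, 18,
  9, 7], [12, 21, 10, 6, 7, 2, 11, 22, 17, 23, 5, 3, 16, 9, 19, 1, 0, 20, 14, 18, 8, 15, 4, 13],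
  [13, 18, 19, 15, 8, 20, 22, 9, 4, 7, 23, 16, 14, 0, 12, 3, 11, 21, 1, 2, 5, 17, 6, 10], [14, 17,
  23, 22, 9, 19, 16, 6, 21, 10, 20, 15, 11, 7, 2, 18, 13, 5, 12, 1, 4, 3, 8, 0], [15, 22, 4, 13,
  16, 0, 18, 21, 19, 14, 1, 8, 7, 20, 17, 5, 2, 9, 23, 11, 3, 12, 10, 6], [16, 15, 5, 11, 22, 10,
  3, 4, 20, 13, 2, 6, 0, 23, 18, 21, 12, 8, 19, 14, 17, 1, 7, 9], [17, 9, 6, 10, 14, 11, 2, 18,
  12, 1, 3, 5, 8, 21, 4, 23, 20, 0, 7, 22, 16, 13, 19, 15], [18, 8, 9, 7, 13, 14, 12, 3, 1, 2, 17,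
  21, 6, 4, 5, 19, 23, 10, 0, 15, 22, 11, 20, 16], [19, 20, 13, 4, 23, 18, 0, 11, 15, 5, 8, 1, 3,
  22, 10, 14, 9, 2, 16, 21, 7, 6, 17, 12], [20, 23, 11, 5, 19, 3, 10, 14, 16, 21, 6, 2, 17, 15, 7,
  13, 8, 12, 22, 4, 0, 9, 18, 1], [21, 7, 22, 23, 12, 16, 19, 1, 14, 18, 15, 20, 4, 17, 8, 10, 5,
  13, 9, 6, 11, 0, 2, 3], [22, 16, 21, 14, 15, 7, 17, 5, 23, 11, 12, 9, 10, 19, 3, 4, 1, 6, 20,
  13, 18, 2, 0, 8], [23, 19, 14, 21, 20, 17, 7, 13, 22, 4, 9, 12, 18, 16, 0, 11, 6, 1, 15, 5, 10,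
  8, 3, 2]]

def dt (c x : K3) : ZMod 3 := c.1 * x.1 + c.2.1 * x.2.1 + c.2.2 * x.2.2

def eS (i : Fin 24) (x : K3) : K3 :=
  (dt (s4mat.getD i 0).1 x, dt (s4mat.getD i 0).2.1 x, dt (s4mat.getD i 0).2.2 x)

def mu (i j : Fin 24) : Fin 24 := (s4mu.getD i []).getD j 0

abbrev Q4 := K3 × Fin 24

def qm (p q : Q4) : Q4 := (p.1 + eS p.2 q.1, mu p.2 q.2)

def qp (p : Q4) : ℕ → Q4
  | 0 => (0, 0)
  | n + 1 => qm (qp p n) p

def wt (x : K3) : ℕ := (if x.1 = 0 then 0 else 1) + (if x.2.1 = 0 then 0 else 1) +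
  (if x.2.2 = 0 then 0 else 1)

def cn (p : Q4) : ℕ := #(univ.filter fun r => qm r p = qm p r)

theorem cn_wt : ∀ k, cn (k, 0) = [648, 108, 54, 81].getD (wt k) 0 := by decide +kernel

set_option synthInstance.maxSize 2000 in
theorem q4_misc : (∀ k k', [648, 108, 54, 81].getD (wt k) 0 = [648, 108, 54, 81].getD (wt k') 0 →
    ∃ i, eS i k = k') ∧ (∀ x y, qm (x, 0) (y, 0) = (x + y, 0)) ∧
    (∀ i x, qm (0, i) (x, 0) = qm (eS i x, 0) (0, i)) ∧ (∀ p : Q4, qm (p.1, 0) (0, p.2) = p) ∧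
    (∀ i, ∃ j, qm (0, j) (0, i) = (0, 0)) ∧ (∀ x : K3, x + x + x = 0) ∧
    (∀ i j, (∀ x, eS i x = eS j x) → i = j) ∧ (∀ x, eS 0 x = x) ∧
    ∀ k, wt k = 1 ∨ wt k = 2 → ∀ i, eS i k = k → mu (mu i i) i = 0 → i = 0 := by
  decide +kernel

variable {G : Type*} [Group G] [Finite G]

structure Sd (el : Q4 → G) : Prop where
  mul : ∀ p q, el (qm p q) = el p * el q
  inj : Function.Injective el
  cent : ∀ k ≠ 0, ∀ g, g * el (k, 0) = el (k, 0) * g → ∃ p, el p = g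
  sc : ∀ k g p, g * el (k, 0) * g⁻¹ = el p → p.2 = 0

theorem exists_fixed {K : Subgroup G} (hK : ∀ a ∈ K, ∀ b ∈ K, a * b = b * a) {z k : G}
    (hz : z ∈ normalizer (K : Set G)) (z3 : z ^ 3 = 1) (hk : k ∈ K) (k3 : orderOf k = 3) :
    ∃ v ∈ K, v ≠ 1 ∧ v ^ 3 = 1 ∧ z * v = v * z := by
  have m : ∀ {a}, a ∈ K → z * a * z⁻¹ ∈ K := fun ha => (mem_normalizer_iff.1 hz _).1 ha
  have c3 : ∀ {a}, a ∈ K → a ^ 3 = 1 → (z * a * z⁻¹ * a⁻¹) ^ 3 = 1 := fun {a} ha h => by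
    rw [Commute.mul_pow (hK _ (m ha) _ (inv_mem ha)), conj_pow, inv_pow, h]; simp
  have k1 : k ≠ 1 := fun e => by simp [e] at k3
  have h3 : k ^ 3 = 1 := k3 ▸ pow_orderOf_eq_one k
  by_cases a1 : z * k * z⁻¹ * k⁻¹ = 1
  · exact ⟨k, hk, k1, h3, by rwa [mul_inv_eq_one, mul_inv_eq_iff_eq_mul] at a1⟩
  have m1 := mul_mem (m hk) (inv_mem hk)
  by_cases a2 : z * (z * k * z⁻¹ * k⁻¹) * z⁻¹ * (z * k * z⁻¹ * k⁻¹)⁻¹ = 1
  · exact ⟨_, m1, a1, c3 hk h3, by rwa [mul_inv_eq_one, mul_inv_eq_iff_eq_mul] at a2⟩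
  refine ⟨_, mul_mem (m m1) (inv_mem m1), a2, c3 m1 (c3 hk h3), mul_inv_eq_iff_eq_mul.1 ?_⟩
  obtain ⟨a, ha⟩ : ∃ a, a = z * k * z⁻¹ := ⟨_, rfl⟩
  obtain ⟨b, hb⟩ : ∃ b, b = z * a * z⁻¹ := ⟨_, rfl⟩
  have hc : z * b * z⁻¹ = k := by
    rw [hb, ha, show z * (z * (z * k * z⁻¹) * z⁻¹) * z⁻¹ = z ^ 3 * k * (z ^ 3)⁻¹ by
      simp only [pow_three', mul_inv_rev, mul_assoc], z3]; group
  have ma : a ∈ K := ha ▸ m hk
  have mb : b ∈ K := hb ▸ m ma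
  have a3 : a ^ 3 = 1 := by rw [ha, conj_pow, h3]; simp
  have b3 : b ^ 3 = 1 := by rw [hb, conj_pow, a3]; simp
  rw [show z * (z * k * z⁻¹ * k⁻¹) * z⁻¹ * (z * k * z⁻¹ * k⁻¹)⁻¹ =
    z * (z * k * z⁻¹) * z⁻¹ * (z * k * z⁻¹)⁻¹ * k * (z * k * z⁻¹)⁻¹ by group, ← ha, ← hb,
    show z * (b * a⁻¹ * k * a⁻¹) * z⁻¹ = z * b * z⁻¹ * (z * a * z⁻¹)⁻¹ * (z * k * z⁻¹) *
      (z * a * z⁻¹)⁻¹ by group, hc, ← hb, ← ha]
  letI : CommGroup K := { (inferInstance : Group K) with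
    mul_comm := fun x y => Subtype.ext (hK _ x.2 _ y.2) }
  have : ∀ a b k : K, a ^ 3 = 1 → b ^ 3 = 1 → k * b⁻¹ * a * b⁻¹ = b * a⁻¹ * k * a⁻¹ :=
    fun a b k a3 b3 => by
      rw [show k * b⁻¹ * a * b⁻¹ = a ^ 3 * (b ^ 3)⁻¹ * (b * a⁻¹ * k * a⁻¹) from
        Additive.ofMul.injective (by simp only [ofMul_mul, ofMul_inv, ofMul_pow]; abel), a3, b3]
      simp
  exact congrArg Subtype.val (this ⟨a, ma⟩ ⟨b, mb⟩ ⟨k, hk⟩ (Subtype.ext a3) (Subtype.ext b3))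

namespace Sd

variable {el : Q4 → G} (h : Sd el)
include h

theorem one : el (0, 0) = 1 := by simpa [q4_misc.2.1] using h.mul (0, 0) (0, 0)

theorem pow (p : Q4) (n : ℕ) : el (qp p n) = el p ^ n := by
  induction n with
  | zero => rw [pow_zero, qp, h.one]
  | succ n ih => rw [qp, h.mul, ih, pow_succ]

theorem conj_of {p q : Q4} (c : ∃ r, qm r p = qm q r) : IsConj (el p) (el q) :=
  let ⟨r, c⟩ := c
  isConj_iff.2 ⟨el r, by rw [← h.mul, c, h.mul, mul_inv_cancel_right]⟩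

theorem card_cent {p : Q4} (m : ℕ) (hp : (qp p m).2 = 0 ∧ (qp p m).1 ≠ 0) :
    Nat.card (centralizer ({el p} : Set G)) = cn p := by
  rw [cn, ← Fintype.card_subtype, ← Nat.card_eq_fintype_card]
  refine (Nat.card_eq_of_bijective (fun r : {r // qm r p = qm p r} => (⟨el r,
    mem_centralizer_singleton_iff.2 (by rw [← h.mul, r.2, h.mul])⟩ :
      centralizer ({el p} : Set G))) ⟨fun x y c => Subtype.ext (h.inj (congrArg Subtype.val c)),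
        fun g => ?_⟩).symm
  have c : Commute g.1 (el p) := mem_centralizer_singleton_iff.1 g.2
  obtain ⟨r, hr⟩ := h.cent _ hp.2 g (by
    rw [← hp.1, Prod.mk.eta, h.pow]; exact c.pow_right m)
  exact ⟨⟨r, h.inj (by rw [h.mul, h.mul, hr, c.eq])⟩, Subtype.ext hr⟩

theorem mem {k k' : K3} (hk : k ≠ 0) {g : G} (hg : g * el (k, 0) * g⁻¹ = el (k', 0)) :
    ∃ r, el r = g := by
  have k1 : ∀ x : K3, x ≠ 0 → (qp (x, 0) 1).2 = 0 ∧ (qp (x, 0) 1).1 ≠ 0 := by decide +kernel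
  have hk' : k' ≠ 0 := fun c => hk (by
    rw [c, h.one, mul_inv_eq_one, mul_eq_left, ← h.one] at hg
    exact congrArg Prod.fst (h.inj hg))
  have := Invol.card_centralizer_of_isConj (isConj_iff.2 ⟨g, hg⟩)
  rw [h.card_cent 1 (k1 k hk), h.card_cent 1 (k1 k' hk'), cn_wt, cn_wt] at this
  obtain ⟨i, rfl⟩ := q4_misc.1 k k' this
  obtain ⟨j, hj⟩ := q4_misc.2.2.2.2.1 i
  have e : el (0, j) = (el (0, i))⁻¹ := eq_inv_of_mul_eq_one_left (by rw [← h.mul, hj, h.one])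
  obtain ⟨r, hr⟩ := h.cent k hk (el (0, j) * g) (by
    rw [mul_assoc, mul_inv_eq_iff_eq_mul.1 hg, ← mul_assoc, e, eq_comm, ← mul_assoc,
      mul_left_inj, mul_inv_eq_iff_eq_mul, mul_assoc, ← h.mul, ← q4_misc.2.2.1, h.mul,
      inv_mul_cancel_left])
  exact ⟨qm (0, i) r, by rw [h.mul, hr, e, mul_inv_cancel_left]⟩

theorem conj_iff {p q : Q4} (m : ℕ) (hp : (qp p m).2 = 0 ∧ (qp p m).1 ≠ 0 ∧ (qp q m).2 = 0)
    (c : IsConj (el p) (el q)) : ∃ r, qm r p = qm q r := by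
  obtain ⟨g, hg⟩ := isConj_iff.1 c
  obtain ⟨r, rfl⟩ := h.mem hp.2.1 (k' := (qp q m).1) (g := g) (by
    rw [← hp.1, Prod.mk.eta, hp.1, ← hp.2.2, Prod.mk.eta, h.pow, h.pow, ← hg, conj_pow])
  exact ⟨r, h.inj (by rw [h.mul, h.mul, ← hg, inv_mul_cancel_right])⟩

theorem act (r : Q4) (x : K3) : el r * el (x, 0) * (el r)⁻¹ = el (eS r.2 x, 0) := by
  rw [mul_inv_eq_iff_eq_mul, ← congrArg el (q4_misc.2.2.2.1 r), h.mul, mul_assoc, ← h.mul,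
    q4_misc.2.2.1, h.mul, ← mul_assoc, ← mul_assoc, ← h.mul, ← h.mul (_, 0) (_, 0), q4_misc.2.1,
    q4_misc.2.1, add_comm]

theorem mod : Mod eS univ fun k => el (k, 0) where
  add x y := by rw [← h.mul, q4_misc.2.1]
  inj x y c := congrArg Prod.fst (h.inj c)
  three := q4_misc.2.2.2.2.2.1
  act g k k' hk hg := by
    obtain ⟨r, rfl⟩ := h.mem hk hg
    exact ⟨r.2, mem_univ _, h.act r⟩
  real i _ := ⟨_, h.act (0, i)⟩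
  cent g hg := by
    obtain ⟨⟨x, i⟩, rfl⟩ := h.mem (by decide) (hg (1, 0, 0))
    obtain rfl : i = 0 := q4_misc.2.2.2.2.2.2.1 i 0 fun y => by
      rw [q4_misc.2.2.2.2.2.2.2.1]
      exact congrArg Prod.fst (h.inj ((h.act (x, i) y).symm.trans (hg y)))
    exact ⟨x, rfl⟩
  faith i _ j _ := q4_misc.2.2.2.2.2.2.1 i j

/-- Class multiplication constants that can be read in `3³`. -/
theorem pairs (a b c : K3) (hk : a ≠ 0 ∧ b ≠ 0 ∧ (wt c = 1 ∨ wt c = 2) ∧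
    ((∀ i, eS i a ≠ b) ∨ ∀ i, eS i (-a) ≠ c)) :
    Nat.card {x : G × G // x.1 * el (a, 0) * x.1⁻¹ * (x.2 * el (b, 0) * x.2⁻¹) = el (c, 0)} =
      [648, 108, 54, 81].getD (wt a) 0 * [648, 108, 54, 81].getD (wt b) 0 *
        #(univ.filter fun x : K3 => wt a = wt x ∧ wt b = wt (-x + c)) := by
  obtain ⟨a0, b0, hc, hk⟩ := hk
  have c0 : c ≠ 0 := by rintro rfl; revert hc; decide
  have k1 : ∀ x : K3, x ≠ 0 → (qp (x, 0) 1).2 = 0 ∧ (qp (x, 0) 1).1 ≠ 0 := by decide +kernel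
  have k2 : ∀ x y, (∃ i ∈ univ, eS i x = y) ↔ wt x = wt y := by decide +kernel
  have M := h.mod
  rw [GW.card_conj_pairs, h.card_cent 1 (k1 a a0), h.card_cent 1 (k1 b b0), cn_wt, cn_wt]
  congr 1
  rw [← Fintype.card_subtype, ← Nat.card_eq_fintype_card]
  refine (Nat.card_eq_of_bijective (fun x : {x : K3 // wt a = wt x ∧ wt b = wt (-x + c)} =>
    (⟨el (x, 0), (M.conj_iff a0).2 ((k2 _ _).2 x.2.1), by
      rw [← M.neg, ← M.add]; exact (M.conj_iff b0).2 ((k2 _ _).2 x.2.2)⟩ :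
      {y : G // IsConj (el (a, 0)) y ∧ IsConj (el (b, 0)) (y⁻¹ * el (c, 0))}))
    ⟨fun x y c => Subtype.ext (M.inj (congrArg Subtype.val c)), fun ⟨y, h1, h2⟩ => ?_⟩).symm
  have o : ∀ {k : K3} {y : G}, k ≠ 0 → IsConj (el (k, 0)) y → orderOf y = 3 := fun hk c => by
    obtain ⟨u, rfl⟩ := isConj_iff.1 c
    rw [Small.orderOf_conj', M.ord hk]
  rcases tri333_cases (o a0 h1) (o b0 h2) (by rw [mul_inv_cancel_left, M.ord c0]) with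
    ⟨K, hK, h3, h4, k, h5, h6⟩ | ⟨h3, h4⟩
  · have t : el (c, 0) = y * y * ((y⁻¹ * el (c, 0))⁻¹ * y)⁻¹ := by group
    obtain ⟨v, h7, v1, v3, h8⟩ := exists_fixed hK (z := el (c, 0))
      (t ▸ mul_mem (mul_mem h3 h3) (le_normalizer (inv_mem h4))) (M.cube c) h5 h6
    obtain ⟨⟨u, i⟩, rfl⟩ := h.cent c c0 v h8.symm
    obtain rfl : i = 0 := q4_misc.2.2.2.2.2.2.2.2 c hc i (congrArg Prod.fst (h.inj
      ((h.act (u, i) c).symm.trans (by rw [← h8, mul_inv_cancel_right])))) (by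
        rw [pow_three', ← h.mul, ← h.mul, ← h.one] at v3
        exact congrArg Prod.snd (h.inj v3))
    have y3 : y ^ 3 = 1 := o a0 h1 ▸ pow_orderOf_eq_one y
    have h9 : Commute (y * y) (el (u, 0)) := by
      have := (show Commute _ _ from h8).mul_left (hK _ h4 _ h7)
      rwa [show el (c, 0) * ((y⁻¹ * el (c, 0))⁻¹ * y) = y * y by group] at this
    obtain ⟨⟨x, j⟩, rfl⟩ := h.cent u (fun e => v1 (by rw [e, h.one])) y (by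
      have := h9.mul_left h9
      rwa [show y * y * (y * y) = y ^ 3 * y by simp only [pow_three', mul_assoc], y3, one_mul] at this)
    obtain ⟨g, hg⟩ := isConj_iff.1 h1
    obtain rfl : j = 0 := h.sc a g _ hg
    rw [← M.neg, ← M.add] at h2
    exact ⟨⟨x, (k2 _ _).1 ((M.conj_iff a0).1 h1), (k2 _ _).1 ((M.conj_iff b0).1 h2)⟩, rfl⟩
  · exfalso
    rcases hk with hk | hk
    · obtain ⟨i, -, c⟩ := (M.conj_iff a0).1 ((h1.trans h3).trans h2.symm)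
      exact hk i c
    · obtain ⟨u, rfl⟩ := isConj_iff.1 h1
      rw [mul_inv_cancel_left] at h4
      obtain ⟨i, -, c⟩ := (M.conj_iff (neg_ne_zero.2 a0)).1 (IsConj.trans
        (isConj_iff.2 ⟨u, by rw [M.neg]; group⟩) h4)
      exact hk i c

end Sd

end Cfsg.Agent.Hig
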