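import Cfsg.Agent.Hig.S4C

/-! A group with a strongly closed `3³` whose element centralisers lie in `3³ : S₄` has order
`648`. -/

set_option autoImplicit false
set_option linter.unusedSectionVars false

namespace Cfsg.Agent.Hig

open Finset Subgroup Cfsg.Agent.Char Cfsg.Agent.Block Cfsg.Agent.Small
open scoped ComplexConjugate

variable {G : Type*} [Group G] [Finite G]

theorem s4_arith {N q r s e f : ℤ} (hq : 27 ∣ q - 6) (hr : 27 ∣ r - 12) (hs : 27 ∣ s - 12)
    (he : 2 * e = 2 - q - s) (hf : f = 2 - q + r) (h1 : N * (r + s) = 108 * (r * s))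
    (h2 : N * (2 * f - e) = -243 * (e * f)) (h3 : 1 + r ^ 2 + s ^ 2 ≤ N) : N = 648 := by
  obtain ⟨a, ha⟩ := hq
  obtain ⟨b, hb⟩ := hr
  obtain ⟨c, hc⟩ := hs
  have N0 : 0 < N := lt_of_lt_of_le (by positivity) h3
  have u1 : r + s < 54 := lt_of_mul_lt_mul_left (a := N) (by nlinarith [sq_nonneg (r - s)]) N0.le
  have u2 : -54 < r + s := lt_of_mul_lt_mul_left (a := N) (by nlinarith [sq_nonneg (r + s)]) N0.le
  have cp : ∀ {m k : ℤ}, ¬ 3 ∣ m → m ∣ 81 * k → m ∣ k := fun {m k} h3 h =>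
    IsCoprime.dvd_of_dvd_mul_left (y := 3 ^ 4)
      (((Prime.coprime_iff_not_dvd Int.prime_three).2 h3).symm.pow_right) h
  obtain u | u | u | u : r + s = 24 ∨ r + s = 51 ∨ r + s = -3 ∨ r + s = -30 := by omega
  · have : 0 < r * s := by rw [u] at h1; omega
    obtain rfl : r = 12 := by
      by_contra
      rcases (show r ≤ -15 ∨ 39 ≤ r by omega) with _ | _ <;> nlinarith
    obtain rfl : s = 12 := by omega
    omega
  · have : 0 < r * s := by rw [u] at h1; omega
    obtain rfl | rfl : r = 12 ∨ r = 39 := by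
      by_contra
      rcases (show r ≤ -15 ∨ 66 ≤ r by omega) with _ | _ <;> nlinarith
    · obtain rfl : s = 39 := by omega
      omega
    · obtain rfl : s = 12 := by omega
      omega
  · have : q - r - 1 ∣ 4 := cp (by omega) ⟨N - 81 * (q - r - 6), by
      rw [show f = 2 * e - 3 by omega] at h2
      rw [show q = 5 - 2 * e + r by omega]
      exact mul_left_cancel₀ three_ne_zero (by linear_combination 2 * h2)⟩
    have := Int.le_of_dvd (by omega) this
    have := Int.le_of_dvd (by omega) ((Int.neg_dvd).2 ‹q - r - 1 ∣ 4›)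
    omega
  · have k : N * (q - r + 8) = 81 * ((32 - (q - r)) * (2 - (q - r))) := by
      rw [show f = 2 * e - 30 by omega] at h2
      rw [show q = 32 - 2 * e + r by omega]
      exact mul_left_cancel₀ three_ne_zero (by linear_combination -2 * h2)
    have : q - r + 8 ∣ 400 := cp (by omega) ⟨N - 81 * (q - r - 42), by linear_combination -k⟩
    have := Int.le_of_dvd (by omega) this
    have := Int.le_of_dvd (by omega) ((Int.neg_dvd).2 ‹q - r + 8 ∣ 400›)
    obtain ⟨t, ht⟩ : ∃ t, q - r + 8 = 27 * t + 2 := ⟨a - b, by omega⟩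
    obtain ⟨z, hz⟩ := ‹q - r + 8 ∣ 400›
    rw [ht] at hz
    obtain rfl : t = 0 := by
      have : -15 ≤ t := by omega
      have : t ≤ 15 := by omega
      interval_cases t <;> omega
    rw [show q - r = -6 by omega] at k
    rw [u, show N = 12312 by omega, show s = -30 - r by omega] at h1
    rcases (show r ≤ -96 ∨ r = -69 ∨ r = -42 ∨ r = -15 ∨ r = 12 ∨ r = 39 ∨ 66 ≤ r by omega) with
      _ | rfl | rfl | rfl | rfl | rfl | _ <;> first | omega | nlinarith

theorem s4_nd : ∀ sol ∈ [s4S0, s4S1, s4S2, s4S3], ∀ i < sol.length, ∀ j < sol.length,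
    sol.getD i [] = sol.getD j [] ∨ sol.getD i [] = (sol.getD j []).map (-1 * ·) → i = j := by
  decide +kernel

set_option maxHeartbeats 2000000 in
set_option synthInstance.maxSize 2000 in
theorem Sd.card {el : Q4 → G} (h : Sd el) : Nat.card G = 648 := by
  obtain ⟨w, hw⟩ := exists_omega
  obtain ⟨A, hA, cA, A1, sA⟩ := h.val 0 3 (by decide +kernel)
  obtain ⟨U, hU, cU, U1, sU⟩ := h.val 1 6 (by decide +kernel)
  obtain ⟨B, hB, cB, B1, sB⟩ := h.val 4 3 (by decide +kernel)
  obtain ⟨W, hW, cW, W1, sW⟩ := h.val 5 6 (by decide +kernel)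
  obtain ⟨C, hC, cC, C1, sC⟩ := h.val 6 3 (by decide +kernel)
  obtain ⟨P, hP, cP, P1, sP⟩ := h.val 7 9 (by decide +kernel)
  obtain ⟨R, hR, cR, R1, sR⟩ := h.val 8 9 (by decide +kernel)
  choose x y hx hy dx dy using fun χ => h.twelve hw (hA χ) (hU χ)
  have cx : Sup el x (2, 3) := ⟨_, _, hx⟩
  have cy : Sup el y (2, 3) := ⟨_, _, hy⟩
  have i2 := Complex.I_sq
  have sx : ∑ χ, x χ * x χ = 6 := h.s2 hx hx (by simp [cs]; norm_num)
  have sy : ∑ χ, y χ * y χ = 2 := h.s2 hy hy (by
    simp [cs]; linear_combination (-8 / 3) * hw + 2 / 3 * (1 + 2 * w) ^ 2 * i2)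
  have sxy : ∑ χ, x χ * y χ = 0 := h.s2 hx hy (by simp [cs])
  have x1 : x (irrOne G) = 1 := by
    have := hx (irrOne G); rw [irrOne_apply, irrOne_apply] at this
    exact_mod_cast this.trans (show _ = (1 : ℂ) by ring)
  have y1 : y (irrOne G) = 0 := by
    have := hy (irrOne G); rw [irrOne_apply, irrOne_apply] at this
    exact_mod_cast this.trans (show _ = (0 : ℂ) by ring)
  have hp : [A, U, x, y, B, W, C, P, R].Pairwise fun c c' => ∑ i, c i * c' i = 0 := by
    simp only [List.pairwise_cons, List.mem_cons, forall_eq_or_imp, List.not_mem_nil,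
      IsEmpty.forall_iff, implies_true, List.Pairwise.nil, and_true]
    repeat' apply And.intro
    all_goals first | exact sxy | (apply h.sup_orth <;> first | assumption | decide)
  have jm := fun χ => h.jmult (hA χ) (hB χ) (hC χ)
  have d3 : ∀ i (N : IrrCharacter G → ℤ), Rt (gs i) 9 →
      (∀ χ : IrrCharacter G, χ.1 (el (gs i)) = N χ) → ∀ χ, 3 ∣ N χ - charDegree χ.1 :=
    fun i N h1 hN χ => dvd_sub_of_mul χ.2.isCharacter Nat.prime_three (u := el (gs i)) (g := 1)
      ⟨2, h.ord h1⟩ (Commute.one_right _) (by rw [mul_one, hN])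
      (by rw [χ.2.apply_one_eq_charDegree]; simp)
  have hM : ∀ r ∈ s4M, ∀ χ, (36 : ℤ) ∣ dot r (ty [A, U, x, y, B, W, C, P, R] χ) :=
    fun r hr χ => by
      obtain ⟨⟨m1, _⟩, ⟨m2, _⟩, ⟨m3, _⟩⟩ := jm χ
      obtain ⟨n1, _⟩ := dx χ
      obtain ⟨n2, _⟩ := dy χ
      obtain ⟨n3, _⟩ := d3 7 P (by decide +kernel) hP χ
      obtain ⟨n4, _⟩ := d3 8 R (by decide +kernel) hR χ
      obtain ⟨n5, _⟩ := dvd_sub_of_mul χ.2.isCharacter Nat.prime_two (u := el (0, 3))
        (g := el (gs 4)) ⟨1, h.ord (by decide +kernel)⟩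
        (show _ = _ by rw [← h.mul, ← h.mul]; rfl) (by rw [← h.mul]; exact hW χ) (hB χ)
      simp only [s4M, List.mem_cons, List.not_mem_nil, or_false] at hr
      rcases hr with rfl | rfl | rfl | rfl | rfl | rfl | rfl | rfl | rfl <;>
        simp only [ty, List.map_cons, List.map_nil, dot_cons, dot_nil] <;> omega
  have hd := fun L w e => dot_coords' (m := 36) (by decide) (L := L) (w := w) hM e
  have vA : ∀ χ : IrrCharacter G, χ.1 (el ((1, 0, 0), 0)) =
      dot [0, 0, 3, 3, -4, -8, -6, 4, -3] (ty (coords _ s4M 36) χ) :=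
    fun χ => by rw [hd _ [1, 0, 0, 0, 0, 0, 0, 0, 0] (by decide)]; exact (hA χ).trans (by simp [ty])
  have vB : ∀ χ : IrrCharacter G, χ.1 (el ((1, 1, 0), 0)) =
      dot [-3, -3, 0, 0, 2, -2, 0, -2, 0] (ty (coords _ s4M 36) χ) :=
    fun χ => by rw [hd _ [0, 0, 0, 0, 1, 0, 0, 0, 0] (by decide)]; exact (hB χ).trans (by simp [ty])
  have vC : ∀ χ : IrrCharacter G, χ.1 (el ((1, 1, 1), 0)) =
      dot [3, 3, -3, -3, -1, 4, -3, 1, 3] (ty (coords _ s4M 36) χ) :=
    fun χ => by rw [hd _ [0, 0, 0, 0, 0, 0, 1, 0, 0] (by decide)]; exact (hC χ).trans (by simp [ty])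
  have ht : ty (coords [A, U, x, y, B, W, C, P, R] s4M 36) (irrOne G) =
      [-1, 0, -1, 0, -1, 0, 0, 0, 0] := by
    rw [ty_coords]
    simp only [ty, List.map_cons, List.map_nil, A1, U1, x1, y1, B1, W1, C1, P1, R1]
    decide
  obtain ⟨sol, hsol, X, s, d, hs, hd', d0, h3, h4, h5, -, h2⟩ := exists_degrees _ s4_check (by
      rw [gram_coords (ds := [108, 12, 6, 2, 54, 6, 81, 9, 9]) (by decide) hp (by
        simp only [List.map_cons, List.map_nil, sA, sU, sx, sy, sB, sW, sC, sP, sR]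
        decide) hM]
      decide +kernel) ht fun χ => .inr fun _ _ => rfl
  have r := Mod.degrees (fun v hv => by
    simp only [List.mem_cons, List.not_mem_nil, or_false] at hv
    rcases hv with rfl | rfl | rfl | rfl | rfl | rfl | rfl | rfl | rfl <;>
      exact h.sup_deg ‹_›) (by decide) hM (s4_nd sol hsol) hs hd' h3 h4
  rw [ht] at r
  have cg : ∀ i < sol.length, 27 ∣ d i + dot [-12, -12, -6, -6, -8, -40, -60, 8, 6]
      (sol.getD i []) := fun i hi => by
    rw [← (h3 i hi).2, dot_smul, hd', ← mul_add, hd _ [6, 0, 0, 0, 12, 0, 8, 0, 0] (by decide)]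
    refine Dvd.dvd.mul_left ?_ _
    simpa [ty, add_assoc] using (jm (X i)).1
  have r0 := r [1]
  have r1 := r [0, 1]
  have r2 := r [0, 0, 1]
  have r3 := r [0, 0, 0, 1]
  have r4 := r [0, 0, 0, 0, 1]
  have r5 := r [0, 0, 0, 0, 0, 1]
  have r6 := r [0, 0, 0, 0, 0, 0, 1]
  have r7 := r [0, 0, 0, 0, 0, 0, 0, 1]
  have r8 := r [0, 0, 0, 0, 0, 0, 0, 0, 1]
  have t1 := h2 _ _ _ _ _ _ vB vB vA
  have t2 := h2 _ _ _ _ _ _ vA vC vB
  have t3 := h2 _ _ _ _ _ _ vB vC vB
  have t4 := h2 _ _ _ _ _ _ vC vC vB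
  have t5 := h2 _ _ _ _ _ _ vA vA vB
  rw [h.pairs _ _ _ (by decide +kernel)] at t1 t2 t3 t4 t5
  rw [show _ * #(univ.filter _) = 11664 by decide +kernel] at t1
  rw [show _ * #(univ.filter _) = 17496 by decide +kernel] at t2 t3
  rw [show _ * #(univ.filter _) = 13122 by decide +kernel] at t4
  rw [show _ * #(univ.filter _) = 23328 by decide +kernel] at t5
  have q0 : ∀ i, (d i : ℚ) ≠ 0 := fun i => Int.cast_ne_zero.2 (d0 i)
  have N0 : (Nat.card G : ℚ) ≠ 0 := Nat.cast_ne_zero.2 Nat.card_pos.ne'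
  clear r h2 h3 h4
  simp only [List.mem_cons, List.not_mem_nil, or_false] at hsol
  rcases hsol with rfl | rfl | rfl | rfl
  · have c10 := cg 10 (by decide)
    have c11 := cg 11 (by decide)
    have c12 := cg 12 (by decide)
    simp [s4S0, sum_range_succ] at r0 r1 r2 r3 r4 r5 r6 r7 r8 t1 t2 t3 t4 c10 c11 c12 h5
    rw [show d 3 = d 2 by omega] at t1 t2 t3 t4
    have a1 : (Nat.card G : ℚ) * (1 / d 11 + 1 / d 12) = 108 := by
      linear_combination (t4 - t3) / 54 + (t1 - t2) / 216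
    have a2 : (Nat.card G : ℚ) * (2 / d 2 - 1 / d 7) = -243 := by
      linear_combination (t2 - t1) / 24
    have := q0 11
    have := q0 12
    have := q0 2
    have := q0 7
    field_simp at a1 a2
    exact_mod_cast s4_arith (N := Nat.card G) (q := d 10) (r := d 11) (s := d 12) (e := d 2)
      (f := d 7) (by omega) (by omega) (by omega) (by omega) (by omega)
      (by apply Int.cast_injective (α := ℚ); push_cast; linear_combination a1)
      (by apply Int.cast_injective (α := ℚ); push_cast; linear_combination a2)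
      (by nlinarith [sq_nonneg (d 0), sq_nonneg (d 1), sq_nonneg (d 2), sq_nonneg (d 3),
        sq_nonneg (d 4), sq_nonneg (d 5), sq_nonneg (d 6), sq_nonneg (d 7), sq_nonneg (d 8),
        sq_nonneg (d 9), sq_nonneg (d 10)])
  · have c7 := cg 7 (by decide)
    have c8 := cg 8 (by decide)
    simp [s4S1, sum_range_succ] at t1 t2 t5 c7 c8
    have a1 : (2 / d 7 + 1 / d 8 : ℚ) = 0 := (mul_eq_zero.1 (by
      linear_combination (t1 + t5 - 2 * t2) / 18)).resolve_left N0
    have := q0 7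
    have := q0 8
    field_simp at a1
    have : d 8 * 2 + d 7 = 0 := by
      apply Int.cast_injective (α := ℚ); push_cast; linear_combination a1
    omega
  · have := d0 0
    simp [s4S2, sum_range_succ] at r3 r6 r8
    omega
  · have := d0 0
    simp [s4S3, sum_range_succ] at r3 r6 r8
    omega

end Cfsg.Agent.Hig
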