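import Mathlib

/-! A verified search: all multisets of integer vectors (up to sign) with a prescribed Gram
matrix.  A vector is coded by the number `∏ p ^ (w · v) ^ 2` over a list of pairs `(p, w)`. -/

set_option autoImplicit false

namespace Cfsg.Agent.Hig

open Finset

def dot : List ℤ → List ℤ → ℤ
  | a :: w, b :: v => Int.add (Int.mul a b) (dot w v)
  | _, _ => 0

@[simp] theorem dot_cons (a b : ℤ) (w v : List ℤ) : dot (a :: w) (b :: v) = a * b + dot w v := rfl
@[simp] theorem dot_nil (v : List ℤ) : dot [] v = 0 := rfl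
@[simp] theorem dot_nil' (w : List ℤ) : dot w [] = 0 := by cases w <;> rfl

theorem dot_smul (s : ℤ) : ∀ w v : List ℤ, dot w (v.map (s * ·)) = s * dot w v
  | [], v => by simp
  | _ :: _, [] => by simp
  | a :: w, b :: v => by simp [dot_smul s w v]; ring

theorem dot_zero : ∀ w v : List ℤ, (∀ x ∈ v, x = 0) → dot w v = 0
  | [], v, _ => by simp
  | _ :: _, [], _ => by simp
  | a :: w, b :: v, h => by
    simp [dot_zero w v fun x hx => h x (List.mem_cons_of_mem _ hx), h b List.mem_cons_self]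

def code : List (ℕ × List ℤ) → List ℤ → ℕ
  | [], _ => 1
  | f :: fs, v => Nat.mul (Nat.pow f.1 (Nat.pow (dot f.2 v).natAbs 2)) (code fs v)

theorem code_cons (f : ℕ × List ℤ) (fs : List (ℕ × List ℤ)) (v : List ℤ) :
    code (f :: fs) v = f.1 ^ (dot f.2 v).natAbs ^ 2 * code fs v := rfl

def quad (G : List (List ℤ)) (t w : List ℤ) : ℤ := dot w (G.map (dot w)) - dot w t ^ 2

def total (G : List (List ℤ)) (t : List ℤ) : List (ℕ × List ℤ) → ℕ
  | [] => 1
  | f :: fs => Nat.mul (Nat.pow f.1 (quad G t f.2).toNat) (total G t fs)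

section gram

variable {I : Type*} [Fintype I] [DecidableEq I]

def gram (cs : List (I → ℤ)) : List (List ℤ) := cs.map fun c => cs.map fun c' => ∑ i, c i * c' i

def ty (cs : List (I → ℤ)) (i : I) : List ℤ := cs.map (· i)

theorem sum_dot (f : I → ℤ) : ∀ (w : List ℤ) (cs : List (I → ℤ)),
    ∑ i, dot w (ty cs i) * f i = dot w (cs.map fun c => ∑ i, c i * f i)
  | [], cs => by simp
  | _ :: _, [] => by simp [ty]
  | a :: w, c :: cs => by
    have := sum_dot f w cs
    simp only [ty, List.map_cons, dot_cons] at this ⊢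
    rw [← this, mul_sum, ← sum_add_distrib]
    exact sum_congr rfl fun i _ => by ring

theorem sum_sq (cs : List (I → ℤ)) (o : I) (w : List ℤ) :
    ∑ i ∈ univ.erase o, dot w (ty cs i) ^ 2 = quad (gram cs) (ty cs o) w := by
  rw [quad, eq_sub_iff_add_eq, sum_erase_add _ _ (mem_univ o)]
  simp only [sq]
  rw [sum_dot, gram, List.map_map]
  congr 2
  funext c
  simp only [Function.comp, mul_comm (c _)]
  exact sum_dot c w cs |>.trans (by simp only [mul_comm])

theorem prod_code (cs : List (I → ℤ)) (o : I) : ∀ fs : List (ℕ × List ℤ),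
    ∏ i ∈ univ.erase o, code fs (ty cs i) = total (gram cs) (ty cs o) fs
  | [] => by simp [code, total]
  | f :: fs => by
    simp only [code_cons, prod_mul_distrib, prod_pow_eq_pow_sum, prod_code cs o fs]
    have : ∑ i ∈ univ.erase o, (dot f.2 (ty cs i)).natAbs ^ 2 =
        (quad (gram cs) (ty cs o) f.2).toNat := by
      rw [← sum_sq]
      apply Int.natCast_inj.1
      rw [Int.toNat_of_nonneg (sum_nonneg fun _ _ => sq_nonneg _)]
      simp
    rw [this]; rfl

end gram

section go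

variable {α : Type}

def force (x : ℕ) (k : ℕ → Bool) : Bool := Nat.rec (k 0) (fun n _ => k n.succ) x

theorem force_eq (x : ℕ) (k : ℕ → Bool) : force x k = k x := by cases x <;> rfl

def split (R p : ℕ) : List (ℕ × α) → List (ℕ × α) → List (ℕ × α) →
    (List (ℕ × α) → List (ℕ × α) → Bool) → Bool
  | [], A, B, k => k A B
  | t :: r, A, B, k => cond (Nat.beq (Nat.mod R t.1) 0) (cond (Nat.beq (Nat.mod t.1 p) 0)
      (split R p r (t :: A) B k) (split R p r A (t :: B) k)) (split R p r A B k)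

theorem split_spec (R p : ℕ) (k : List (ℕ × α) → List (ℕ × α) → Bool) :
    ∀ l A B : List (ℕ × α), split R p l A B k = true → ∃ A' B', k A' B' = true ∧
      (∀ t, t ∈ A ∨ (t ∈ l ∧ t.1 ∣ R ∧ p ∣ t.1) → t ∈ A') ∧
      (∀ t, t ∈ B ∨ (t ∈ l ∧ t.1 ∣ R ∧ ¬ p ∣ t.1) → t ∈ B')
  | [], A, B, h => ⟨A, B, h, by simp, by simp⟩
  | t :: r, A, B, h => by
    have e : ∀ a b : ℕ, Nat.beq (Nat.mod a b) 0 = decide (b ∣ a) := fun a b => by
      rw [Bool.eq_iff_iff, Nat.beq_eq, decide_eq_true_iff, Nat.dvd_iff_mod_eq_zero]; rfl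
    rw [split, e, e] at h
    by_cases h1 : t.1 ∣ R
    · by_cases h2 : p ∣ t.1
      · simp only [h1, h2, decide_true, cond_true] at h
        obtain ⟨A', B', h3, h4, h5⟩ := split_spec R p k r _ _ h
        refine ⟨A', B', h3, fun u hu => h4 u ?_, fun u hu => h5 u ?_⟩ <;> grind
      · simp only [h1, h2, decide_true, decide_false, cond_true, cond_false] at h
        obtain ⟨A', B', h3, h4, h5⟩ := split_spec R p k r _ _ h
        refine ⟨A', B', h3, fun u hu => h4 u ?_, fun u hu => h5 u ?_⟩ <;> grind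
    · simp only [h1, decide_false, cond_false] at h
      obtain ⟨A', B', h3, h4, h5⟩ := split_spec R p k r _ _ h
      refine ⟨A', B', h3, fun u hu => h4 u ?_, fun u hu => h5 u ?_⟩ <;> grind

def loop (f : List (ℕ × α) → ℕ × α → Bool) (B : List (ℕ × α)) : List (ℕ × α) → Bool
  | [] => true
  | v :: r => f (v :: r ++ B) v && loop f B r

theorem loop_spec (f : List (ℕ × α) → ℕ × α → Bool) (B : List (ℕ × α)) (m : Multiset (ℕ × α)) :
    ∀ A, loop f B A = true → (∀ x ∈ m, x ∈ A ∨ x ∈ B) → (∃ x ∈ m, x ∈ A) →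
      ∃ l v, f l v = true ∧ v ∈ m ∧ ∀ x ∈ m, x ∈ l
  | [], _, _, h => by simp at h
  | v :: r, h, h1, ⟨x, hx, h2⟩ => by
    rw [loop, Bool.and_eq_true] at h
    by_cases hv : v ∈ m
    · exact ⟨_, v, h.1, hv, fun y hy => List.mem_append.2 (h1 y hy)⟩
    · refine loop_spec f B m r h.2 (fun y hy => ?_) ⟨x, hx, ?_⟩ <;> grind

def pick (R : ℕ) : List ℕ → ℕ
  | [] => 1
  | p :: ps => cond (Nat.beq (Nat.mod R p) 0) p (pick R ps)

theorem pick_spec (R : ℕ) : ∀ ps : List ℕ, (∀ p ∈ ps, p.Prime) →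
    pick R ps = 1 ∨ ((pick R ps).Prime ∧ pick R ps ∣ R)
  | [], _ => .inl rfl
  | p :: ps, h => by
    rw [pick]
    cases e : Nat.beq (Nat.mod R p) 0
    · exact pick_spec R ps fun q hq => h q (List.mem_cons_of_mem _ hq)
    · exact .inr ⟨h p List.mem_cons_self, Nat.dvd_of_mod_eq_zero (Nat.eq_of_beq_eq_true e)⟩

def go (ps : List ℕ) (P : List α → Bool) : ℕ → List (ℕ × α) → ℕ → List α → Bool
  | 0, _, _, _ => false
  | n + 1, ts, R, acc => cond (Nat.beq R 1) (P acc) (force (pick R ps) fun p =>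
      split R p ts [] [] fun A B =>
        loop (fun l v => force (Nat.div R v.1) fun R' => go ps P n l R' (v.2 :: acc)) B A)

theorem go_sound {ps : List ℕ} (hps : ∀ p ∈ ps, p.Prime) (P : List α → Bool) :
    ∀ (n : ℕ) (ts : List (ℕ × α)) (R : ℕ) (acc : List α) (m : Multiset (ℕ × α)),
      go ps P n ts R acc = true → (∀ x ∈ m, x ∈ ts) → (∀ x ∈ m, 1 < x.1) →
      (m.map Prod.fst).prod = R → ∃ l : List α, (l : Multiset α) = m.map Prod.snd ∧
        P (l ++ acc) = true
  | 0, _, _, _, _, h, _, _, _ => by simp [go] at h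
  | n + 1, ts, R, acc, m, h, h1, h2, h3 => by
    classical
    have hd : ∀ x ∈ m, x.1 ∣ R := fun x hx => h3 ▸ Multiset.dvd_prod (Multiset.mem_map_of_mem _ hx)
    rw [go] at h
    cases e : Nat.beq R 1
    · rw [e, cond_false, force_eq] at h
      obtain ⟨A, B, h4, h5, h6⟩ := split_spec _ _ _ _ _ _ h
      obtain ⟨x, hx, hp⟩ : ∃ x ∈ m, pick R ps ∣ x.1 := by
        rcases pick_spec R ps hps with h7 | h7
        · obtain ⟨x, hx⟩ := Multiset.exists_mem_of_ne_zero (s := m) fun e' => by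
            rw [e'] at h3; rw [← h3] at e; simp at e
          exact ⟨x, hx, h7 ▸ one_dvd _⟩
        · obtain ⟨y, hy, h8⟩ := h7.1.prime.exists_mem_multiset_dvd (s := m.map Prod.fst)
            (by rw [h3]; exact h7.2)
          obtain ⟨x, hx, rfl⟩ := Multiset.mem_map.1 hy
          exact ⟨x, hx, h8⟩
      obtain ⟨l, v, h7, hv, h8⟩ := loop_spec _ _ m A h4 (fun y hy => by
        by_cases c : pick R ps ∣ y.1
        · exact .inl (h5 y (.inr ⟨h1 y hy, hd y hy, c⟩))
        · exact .inr (h6 y (.inr ⟨h1 y hy, hd y hy, c⟩))) ⟨x, hx, h5 x (.inr ⟨h1 x hx, hd x hx, hp⟩)⟩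
      rw [force_eq] at h7
      obtain ⟨m', rfl⟩ := Multiset.exists_cons_of_mem hv
      obtain ⟨l', h9, h10⟩ := go_sound hps P n l _ _ m' h7
        (fun y hy => h8 y (Multiset.mem_cons_of_mem hy))
        (fun y hy => h2 y (Multiset.mem_cons_of_mem hy)) (by
          rw [← h3, Multiset.map_cons, Multiset.prod_cons]
          exact (Nat.mul_div_cancel_left _ (by have := h2 v hv; omega)).symm)
      refine ⟨l' ++ [v.2], ?_, by simpa using h10⟩
      rw [Multiset.map_cons, ← h9, Multiset.cons_coe, Multiset.coe_eq_coe]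
      exact List.perm_append_singleton _ _
    · rw [e, cond_true] at h
      have e1 := Nat.eq_of_beq_eq_true e
      obtain rfl : m = 0 := Multiset.eq_zero_of_forall_notMem fun x hx => by
        have := Nat.dvd_one.1 (e1 ▸ hd x hx); have := h2 x hx; omega
      exact ⟨[], rfl, h⟩

end go

def isP (p : ℕ) : Bool := Nat.ble 2 p && (List.range' 2 (p - 2)).all fun d => !Nat.beq (p % d) 0

theorem prime_of_isP {p : ℕ} (h : isP p = true) : p.Prime := by
  simp only [isP, Bool.and_eq_true, Nat.ble_eq, List.all_eq_true, List.mem_range'_1,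
    Bool.not_eq_true'] at h
  refine Nat.prime_def_lt'.2 ⟨h.1, fun m h1 h2 h3 => ?_⟩
  have := h.2 m ⟨h1, by omega⟩
  rw [Nat.mod_eq_zero_of_dvd h3] at this
  simp at this

/-- The first non-zero entry is positive. -/
def nrm : List ℤ → Bool
  | [] => false
  | a :: v => cond (decide (a = 0)) (nrm v) (decide (0 < a))

theorem exists_nrm : ∀ v : List ℤ, (∃ x ∈ v, x ≠ 0) →
    ∃ s : ℤ, (s = 1 ∨ s = -1) ∧ nrm (v.map (s * ·)) = true
  | [], h => by simp at h
  | a :: v, h => by
    rcases lt_trichotomy a 0 with c | rfl | c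
    · exact ⟨-1, .inr rfl, by simp [nrm, c, c.ne]⟩
    · obtain ⟨s, h1, h2⟩ := exists_nrm v (by simpa using h)
      exact ⟨s, h1, by simpa [nrm] using h2⟩
    · exact ⟨1, .inl rfl, by simp [nrm, c, c.ne']⟩

def forceL : List ℤ → (List ℤ → Bool) → Bool
  | [], k => k []
  | .ofNat n :: r, k => force n fun m => forceL r fun l => k (Int.ofNat m :: l)
  | .negSucc n :: r, k => force n fun m => forceL r fun l => k (Int.negSucc m :: l)

theorem forceL_eq : ∀ (l : List ℤ) (k : List ℤ → Bool), forceL l k = k l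
  | [], _ => rfl
  | .ofNat n :: r, k => by simp only [forceL, force_eq, forceL_eq r]
  | .negSucc n :: r, k => by simp only [forceL, force_eq, forceL_eq r]

/-- All vectors with entries in `xs` passing the test of each level. -/
def gen (xs : List ℤ) : List (List (List ℤ) × List (List ℤ) × List ℤ) → List (List ℤ)
  | [] => [[]]
  | lv :: lvs => (gen xs lvs).flatMap fun v => (xs.map (· :: v)).filter fun u =>
      forceL (lv.1.map (dot · u)) fun w => decide (dot w u ^ 2 ≤ quad lv.2.1 lv.2.2 w)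

def valid : List (List (List ℤ) × List (List ℤ) × List ℤ) → List (List ℤ) → List ℤ → Bool
  | [], _, t => t.isEmpty
  | lv :: lvs, G, t => !t.isEmpty && decide (lv.2 = (G, t)) &&
      valid lvs (G.tail.map List.tail) t.tail

theorem mem_gen {I : Type*} [Fintype I] [DecidableEq I] {xs : List ℤ} {o i : I} (hi : i ≠ o) {s : ℤ}
    (hs : s = 1 ∨ s = -1) : ∀ (lvs : List (List (List ℤ) × List (List ℤ) × List ℤ))
      (cs : List (I → ℤ)), valid lvs (gram cs) (ty cs o) = true → (∀ c ∈ cs, s * c i ∈ xs) →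
      (ty cs i).map (s * ·) ∈ gen xs lvs
  | [], [], _, _ => by simp [ty, gen]
  | [], c :: cs, h, _ => by simp [valid, ty] at h
  | lv :: lvs, [], h, _ => by simp [valid, ty] at h
  | lv :: lvs, c :: cs, h, hx => by
    rw [valid, Bool.and_eq_true, Bool.and_eq_true, decide_eq_true_iff] at h
    have e : (gram (c :: cs)).tail.map List.tail = gram cs := by
      simp [gram, Function.comp_def]
    have := mem_gen hi hs lvs cs (e ▸ h.2) fun c' hc => hx c' (List.mem_cons_of_mem _ hc)
    refine List.mem_flatMap.2 ⟨_, this, List.mem_filter.2 ⟨List.mem_map.2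
      ⟨_, hx c List.mem_cons_self, rfl⟩, ?_⟩⟩
    rw [forceL_eq, decide_eq_true_iff, h.1.2]
    generalize List.map _ lv.1 = w
    change dot w ((ty (c :: cs) i).map (s * ·)) ^ 2 ≤ quad (gram (c :: cs)) (ty (c :: cs) o) w
    rw [← sum_sq, dot_smul, mul_pow, show s ^ 2 = 1 by rcases hs with rfl | rfl <;> rfl, one_mul]
    exact single_le_sum (f := fun j => dot w (ty (c :: cs) j) ^ 2)
      (fun _ _ => sq_nonneg _) (mem_erase.2 ⟨hi, mem_univ i⟩)

def mk (fs : List (ℕ × List ℤ)) (Ls : List ℤ → Bool) (R : ℕ) : List (List ℤ) →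
    List (ℕ × List ℤ) → (List (ℕ × List ℤ) → Bool) → Bool
  | [], acc, k => k acc
  | v :: r, acc, k => cond (nrm v && Ls v)
      (force (code fs v) fun c => Nat.ble 2 c && cond (Nat.beq (Nat.mod R c) 0)
        (mk fs Ls R r ((c, v) :: acc) k) (mk fs Ls R r acc k)) (mk fs Ls R r acc k)

theorem mk_spec (fs : List (ℕ × List ℤ)) (Ls : List ℤ → Bool) (R : ℕ)
    (k : List (ℕ × List ℤ) → Bool) : ∀ l acc, mk fs Ls R l acc k = true → ∃ ts, k ts = true ∧
      (∀ t ∈ acc, t ∈ ts) ∧ ∀ v ∈ l, nrm v = true → Ls v = true → code fs v ∣ R →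
        (code fs v, v) ∈ ts ∧ 1 < code fs v
  | [], acc, h => ⟨acc, h, fun _ h => h, by simp⟩
  | v :: r, acc, h => by
    rw [mk] at h
    cases e : (nrm v && Ls v)
    · rw [e, cond_false] at h
      obtain ⟨ts, h1, h2, h3⟩ := mk_spec fs Ls R k r acc h
      refine ⟨ts, h1, h2, fun u hu a b c => ?_⟩
      rcases List.mem_cons.1 hu with rfl | hu
      · simp [a, b] at e
      · exact h3 u hu a b c
    · rw [e, cond_true, force_eq, Bool.and_eq_true, Nat.ble_eq] at h
      cases e' : Nat.beq (Nat.mod R (code fs v)) 0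
      · rw [e', cond_false] at h
        obtain ⟨ts, h1, h2, h3⟩ := mk_spec fs Ls R k r acc h.2
        refine ⟨ts, h1, h2, fun u hu a b c => ?_⟩
        rcases List.mem_cons.1 hu with rfl | hu
        · exact absurd (Nat.mod_eq_zero_of_dvd c) (Nat.ne_of_beq_eq_false e')
        · exact h3 u hu a b c
      · rw [e', cond_true] at h
        obtain ⟨ts, h1, h2, h3⟩ := mk_spec fs Ls R k r _ h.2
        refine ⟨ts, h1, fun t ht => h2 t (List.mem_cons_of_mem _ ht), fun u hu a b c => ?_⟩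
        rcases List.mem_cons.1 hu with rfl | hu
        · exact ⟨h2 _ List.mem_cons_self, h.1⟩
        · exact h3 u hu a b c

/-- The whole test. -/
def check (G : List (List ℤ)) (t : List ℤ) (B : ℕ) (xs : List ℤ)
    (lvs : List (List (List ℤ) × List (List ℤ) × List ℤ)) (fs : List (ℕ × List ℤ)) (ps : List ℕ)
    (Ls : List ℤ → Bool) (sols : List (List (List ℤ))) : Bool :=
  ps.all isP && (G.all fun r => r.all fun x => decide (x < (B + 1) ^ 2)) &&
    ((List.range (2 * B + 1)).all fun j => xs.contains ((j : ℤ) - B)) && valid lvs G t &&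
    force (total G t fs) fun R => mk fs Ls R (gen xs lvs) [] fun ts =>
      go ps (fun l => sols.any fun sol => l.isPerm sol) 40 ts R []

def nz (Ls : List (List ℤ)) (v : List ℤ) : Bool := Ls.all fun L => !Nat.beq (dot L v).natAbs 0

theorem nz_of {Ls : List (List ℤ)} {v : List ℤ} (h : ∀ L ∈ Ls, dot L v ≠ 0) {s : ℤ}
    (hs : s = 1 ∨ s = -1) : nz Ls (v.map (s * ·)) = true :=
  List.all_eq_true.2 fun L hL => by
    rw [dot_smul, Bool.not_eq_true', Bool.eq_false_iff, Ne, Nat.beq_eq]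
    rcases hs with rfl | rfl <;> simpa using h L hL

theorem code_smul {s : ℤ} (hs : s = 1 ∨ s = -1) (v : List ℤ) : ∀ fs : List (ℕ × List ℤ),
    code fs (v.map (s * ·)) = code fs v
  | [] => rfl
  | f :: fs => by
    rw [code_cons, code_cons, code_smul hs v fs, dot_smul]
    rcases hs with rfl | rfl <;> simp

theorem code_zero {v : List ℤ} (h : ∀ x ∈ v, x = 0) : ∀ fs : List (ℕ × List ℤ), code fs v = 1
  | [] => rfl
  | f :: fs => by rw [code_cons, code_zero h fs, dot_zero _ _ h]; simp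

theorem exists_list {I α : Type*} (f : I → α) : ∀ (l : List α) (m : Multiset I),
    m.map f = l → ∃ l' : List I, m = l' ∧ l'.map f = l
  | [], m, h => ⟨[], by simpa using h, rfl⟩
  | a :: l, m, h => by
    classical
    obtain ⟨x, hx, h1, h2⟩ := (Multiset.map_eq_cons f m l a).2 h
    obtain ⟨l', h3, h4⟩ := exists_list f l _ h2
    exact ⟨x :: l', by rw [← Multiset.cons_coe, ← h3, Multiset.cons_erase hx], by simp [h1, h4]⟩

/-- The classification of the non-zero types. -/
theorem classify {I : Type*} [Fintype I] [DecidableEq I] (cs : List (I → ℤ)) (o : I)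
    {G : List (List ℤ)} {t : List ℤ} {B : ℕ} {xs : List ℤ}
    {lvs : List (List (List ℤ) × List (List ℤ) × List ℤ)} {fs : List (ℕ × List ℤ)} {ps : List ℕ}
    {Ls : List ℤ → Bool} {sols : List (List (List ℤ))}
    (h : check G t B xs lvs fs ps Ls sols = true) (hG : gram cs = G) (ht : ty cs o = t)
    (hL : ∀ i, (∀ x ∈ ty cs i, x = 0) ∨ ∀ s : ℤ, s = 1 ∨ s = -1 →
      Ls ((ty cs i).map (s * ·)) = true) :
    ∃ sol ∈ sols, ∃ (s : I → ℤ) (l : List I), (∀ i, s i = 1 ∨ s i = -1) ∧ l.Nodup ∧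
      (∀ i, i ∈ l ↔ i ≠ o ∧ ∃ x ∈ ty cs i, x ≠ 0) ∧
      l.map (fun i => (ty cs i).map (s i * ·)) = sol := by
  classical
  subst hG ht
  simp only [check, Bool.and_eq_true, List.all_eq_true, force_eq, decide_eq_true_eq] at h
  obtain ⟨⟨⟨⟨h1, h2⟩, h3⟩, h4⟩, h5⟩ := h
  have hs : ∀ i, ∃ s : ℤ, (s = 1 ∨ s = -1) ∧ ((∃ x ∈ ty cs i, x ≠ 0) →
      nrm ((ty cs i).map (s * ·)) = true) := fun i => by
    by_cases c : ∃ x ∈ ty cs i, x ≠ 0
    · exact (exists_nrm _ c).imp fun s hs => ⟨hs.1, fun _ => hs.2⟩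
    · exact ⟨1, .inl rfl, fun c' => absurd c' c⟩
  choose s hs1 hs2 using hs
  obtain ⟨ts, h6, -, h7⟩ := mk_spec _ _ _ _ _ _ h5
  set W := (univ.erase o).filter fun i => ∃ x ∈ ty cs i, x ≠ 0 with hW
  have hp : ∏ i ∈ W, code fs (ty cs i) = total (gram cs) (ty cs o) fs := by
    rw [← prod_code, hW, prod_filter_of_ne fun i _ hi => by
      by_contra c; push Not at c; exact hi (code_zero c fs)]
  have h8 : ∀ i ∈ W, (code fs (ty cs i), (ty cs i).map (s i * ·)) ∈ ts ∧
      1 < code fs (ty cs i) := fun i hi => by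
    obtain ⟨hi1, hi2⟩ := mem_filter.1 hi
    rw [← code_smul (hs1 i)]
    refine h7 _ (mem_gen (ne_of_mem_erase hi1) (hs1 i) lvs cs h4 fun c hc => ?_) (hs2 i hi2)
      ?_ (by rw [code_smul (hs1 i), ← hp]; exact dvd_prod_of_mem _ hi)
    · have a1 := h2 _ (List.mem_map_of_mem hc) _ (List.mem_map_of_mem hc)
      have a2 := single_le_sum (f := fun j => c j * c j) (fun _ _ => mul_self_nonneg _) (mem_univ i)
      have a3 := abs_lt.1 (abs_lt_of_sq_lt_sq (a := c i) (b := (B : ℤ) + 1)
        (by rw [sq]; exact a2.trans_lt a1) (by positivity))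
      have a4 : |s i * c i| ≤ B := by rcases hs1 i with e | e <;> rw [e, abs_le] <;> omega
      have a5 := h3 (s i * c i + B).toNat (List.mem_range.2 (by
        have := abs_le.1 a4; omega))
      rw [Int.toNat_of_nonneg (by have := abs_le.1 a4; omega), add_sub_cancel_right] at a5
      simpa using a5
    · rcases hL i with c | c
      · obtain ⟨x, hx, x0⟩ := hi2
        exact absurd (c x hx) x0
      · exact c _ (hs1 i)
  obtain ⟨l, h9, h10⟩ := go_sound (fun p hp => prime_of_isP (h1 p hp)) _ _ _ _ _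
    (W.val.map fun i => (code fs (ty cs i), (ty cs i).map (s i * ·))) h6
    (fun x hx => by obtain ⟨i, hi, rfl⟩ := Multiset.mem_map.1 hx; exact (h8 i hi).1)
    (fun x hx => by obtain ⟨i, hi, rfl⟩ := Multiset.mem_map.1 hx; exact (h8 i hi).2)
    (by rw [Multiset.map_map, ← hp]; rfl)
  obtain ⟨sol, hsol, h10⟩ := List.any_eq_true.1 h10
  rw [List.append_nil, List.isPerm_iff, ← Multiset.coe_eq_coe, h9, Multiset.map_map] at h10
  obtain ⟨l', e1, e2⟩ := exists_list _ _ _ h10
  refine ⟨sol, hsol, s, l', hs1, Multiset.coe_nodup.1 (e1 ▸ W.nodup), fun i => ?_, e2⟩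
  rw [← Multiset.mem_coe, ← e1, mem_val, hW]
  simp

end Cfsg.Agent.Hig
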