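import Cfsg.Agent.Hig.Mod

/-! The model for a Sylow `3`-subgroup (`SMod`); the case `3² : 2²`. -/

set_option autoImplicit false
set_option linter.unusedSectionVars false

namespace Cfsg.Agent.Hig

open Finset Subgroup Cfsg.Agent.Char Cfsg.Agent.Block Cfsg.Agent.Small
open scoped ComplexConjugate

variable {G : Type*} [Group G] [Finite G] {K ι : Type} [AddCommGroup K] [Fintype K]
  [DecidableEq K]

structure SMod (e : ι → K → K) (E : Finset ι) (φ : K → G) : Prop extends Mod e E φ where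
  tri : ∀ x y k, orderOf x = 3 → orderOf y = 3 → k ≠ 0 → x * y = φ k →
    ((∃ k, φ k = x) ∧ ∃ k, φ k = y) ∨ (IsConj x y ∧ IsConj x⁻¹ (x * y))
  dich : ∀ χ : IrrCharacter G, (∀ g, 3 ∣ orderOf g → χ.1 g = 0) ∨ ∀ k, χ.1 (φ k) ≠ 0

theorem SMod.of_sylow {e : ι → K → K} {E : Finset ι} {φ : K → G} {S : Sylow 3 G}
    (hC : centralizer ((S : Subgroup G) : Set G) ≤ S)
    (hc : ∀ t ∈ (S : Subgroup G), t ≠ 1 →
      centralizer ({t} : Set G) ≤ normalizer ((S : Subgroup G) : Set G))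
    (add : ∀ x y, φ (x + y) = φ x * φ y) (inj : Function.Injective φ)
    (three : ∀ x : K, x + x + x = 0) (mem : ∀ g, g ∈ (S : Subgroup G) ↔ ∃ k, φ k = g)
    (act : ∀ g ∈ normalizer ((S : Subgroup G) : Set G), ∃ i ∈ E, ∀ x, g * φ x * g⁻¹ = φ (e i x))
    (real : ∀ i ∈ E, ∃ n, ∀ x, n * φ x * n⁻¹ = φ (e i x))
    (faith : ∀ i ∈ E, ∀ j ∈ E, (∀ x, e i x = e j x) → i = j) : SMod e E φ := by
  have := Fact.mk Nat.prime_three
  have m : ∀ k, φ k ∈ (S : Subgroup G) := fun k => (mem _).2 ⟨k, rfl⟩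
  have z : φ 0 = 1 := by simpa using add 0 0
  have h : SEp S := ⟨fun a ha b hb => by
    obtain ⟨x, rfl⟩ := (mem a).1 ha
    obtain ⟨y, rfl⟩ := (mem b).1 hb
    rw [← add, ← add, add_comm], hc⟩
  have hM : Mod e E φ := ⟨add, inj, three, fun g k k' hk hg => act g (h.mem_normalizer (m k)
    (fun c => hk (inj (c.trans z.symm))) (hg ▸ m k')), real, fun g hg => (mem g).1 (hC fun x hx => by
      obtain ⟨x, rfl⟩ := (mem x).1 hx
      exact (mul_inv_eq_iff_eq_mul.1 (hg x)).symm), faith⟩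
  exact ⟨hM, fun x y k hx hy hk c => (h.tri hx hy (c ▸ hM.ord hk) (c ▸ m k)).imp_left
    fun c => ⟨(mem _).1 c.1, (mem _).1 c.2⟩, fun χ => (dichotomy h hC χ).imp_right
      fun c k => c _ (m k)⟩

theorem Mod.normal_of_card {e : ι → K → K} {E : Finset ι} {φ : K → G} (h : Mod e E φ)
    (hG : Nat.card G = #E * Fintype.card K) (g : G) (x : K) : ∃ y, φ y = g * φ x * g⁻¹ := by
  choose! n hn using h.real
  obtain ⟨⟨i, y⟩, rfl⟩ : ∃ z : E × K, n z.1 * φ z.2 = g := by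
    refine ((Nat.bijective_iff_injective_and_card (fun z : E × K => n z.1 * φ z.2)).2
      ⟨fun x y c => ?_, by simp [hG]⟩).2 g
    have c : n x.1 * φ x.2 = n y.1 * φ y.2 := c
    have : x.1 = y.1 := Subtype.ext (h.faith _ x.1.2 _ y.1.2
      fun z => h.inj (by rw [← h.conj_mul (hn _ x.1.2) x.2, c, h.conj_mul (hn _ y.1.2)]))
    rw [this] at c
    exact Prod.ext this (h.inj (mul_left_cancel c))
  exact ⟨_, (h.conj_mul (hn _ i.2) y x).symm⟩

theorem Mod.normalizer_eq_top {e : ι → K → K} {E : Finset ι} {φ : K → G} (h : Mod e E φ)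
    (hG : Nat.card G = #E * Fintype.card K) {S : Subgroup G} (mem : ∀ g, g ∈ S ↔ ∃ k, φ k = g) :
    normalizer (S : Set G) = ⊤ :=
  normalizer_eq_top_iff.2 ⟨fun x hx g => by
    obtain ⟨x, rfl⟩ := (mem x).1 hx
    exact (mem _).2 (h.normal_of_card hG g x)⟩

def v4G : List (List ℤ) :=
  [[3, 0, 0, 1, 1], [0, 3, 0, 1, 1], [0, 0, 3, 1, 1], [1, 1, 1, 3, 0], [1, 1, 1, 0, 3]]

def v4V : List (List (List ℤ) × List (List ℤ) × List ℤ) :=
  [([[8, 2, 2, -2, -4], [2, 7, 3, -5, -4], [2, 3, 7, -5, -4], [-2, -5, -5, 11, 4], [-4, -4, -4,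
  4, 8]], [[3, 0, 0, 1, 1], [0, 3, 0, 1, 1], [0, 0, 3, 1, 1], [1, 1, 1, 3, 0], [1, 1, 1, 0, 3]],
  [1, 0, 0, 1, 0]), ([[13, 5, -9, -6], [5, 13, -9, -6], [-9, -9, 21, 6], [-6, -6, 6, 12]], [[3,
  0, 1, 1], [0, 3, 1, 1], [1, 1, 3, 0], [1, 1, 0, 3]], [0, 0, 1, 0]), ([[6, -3, -2], [-3, 8, 1],
  [-2, 1, 5]], [[3, 1, 1], [1, 3, 0], [1, 0, 3]], [0, 1, 0]), ([[3, 0], [0, 2]], [[3, 0], [0,
  3]], [1, 0]), ([[1]], [[3]], [0])]

def v4F : List (ℕ × List ℤ) :=
  [(2, [0, 0, 0, 0, 1]), (3, [0, 0, 0, 1]), (5, [0, 0, 1]), (7, [0, 1]), (11, [1]), (13, [1, 1,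
  1, -1, -1]), (17, [0, 0, 1, -1]), (19, [0, 0, 1, 0, -1]), (23, [0, 1, 0, -1]), (29, [0, 1, 0,
  0, -1]), (31, [0, 1, 1, -1, -1]), (37, [1, 0, 0, -1]), (41, [1, 0, 0, 0, -1]), (43, [1, 0, 1,
  -1, -1]), (47, [1, 1, 0, -1, -1])]

def v4L : List (List ℤ) :=
  [[1, 1, -2, 0, 0], [-2, -2, -2, 3, 3], [1, 1, 1, 0, 0]]

def v4S : List (List ℤ) :=
  [[0, 1, 0, 1, 0], [0, 0, 1, 1, 0], [1, 0, 0, 0, 1], [0, 1, 0, 0, 1], [0, 0, 1, 0, 1],
  [1, 0, 0, 0, 0], [0, 1, 0, 0, 0], [0, 0, 1, 0, 0]]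

def v4M : List (List ℤ) :=
  [[1, 0, 2, 3, 0], [1, 0, 2, -3, 0], [-2, 0, 2, 0, 0], [0, 1, 2, 0, 3], [0, 1, 2, 0, -3]]

theorem v4_check : check v4G [1, 0, 0, 1, 0] 1 [-1, 0, 1] v4V v4F
    [2, 3, 5, 7, 11, 13] (nz v4L) [v4S] = true := by
  decide +kernel

theorem eq_of_harm {u v w : ℚ} (hu : u ≠ 0) (hv : v ≠ 0) (hw : w ≠ 0) (h : u + v + w = 0)
    (e : 1 / u + 1 / v + 4 / w = 0) : u = v := by
  obtain rfl : w = -(u + v) := by linarith
  rw [neg_ne_zero] at hw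
  field_simp at e
  nlinarith [sq_nonneg (u - v)]

abbrev K2 := ZMod 3 × ZMod 3

def e4 (i x : K2) : K2 := (i.1 * x.1, i.2 * x.2)

def E4 : Finset K2 := {(1, 1), (1, -1), (-1, 1), (-1, -1)}

theorem card_v4 {φ : K2 → G} (h : SMod e4 E4 φ) : Nat.card G = 36 := by
  obtain ⟨A, hA, cA, A1, sA, dA⟩ := h.val (1, 0) (by decide)
  obtain ⟨B, hB, cB, B1, sB, dB⟩ := h.val (0, 1) (by decide)
  obtain ⟨C, hC, cC, C1, sC, dC⟩ := h.val (1, 1) (by decide)
  obtain ⟨u, U, hU, u1, cU, U1, sU, dU⟩ := h.six (1, 0) (1, -1) (by decide) hA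
  obtain ⟨w, W, hW, w1, cW, W1, sW, dW⟩ := h.six (0, 1) (-1, 1) (by decide) hB
  have hv : List.Forall₂ (Cl φ) [A, B, C, U, W] [((1, 0), false), ((0, 1), false),
    ((1, 1), false), ((1, 0), true), ((0, 1), true)] :=
    .cons cA (.cons cB (.cons cC (.cons cU (.cons cW .nil))))
  have hM : ∀ r ∈ v4M, ∀ χ, (6 : ℤ) ∣ dot r (ty [A, B, C, U, W] χ) := fun r hr χ => by
    have := dA χ; have := dB χ; have := dC χ; have := dU χ; have := dW χ
    simp only [v4M, List.mem_cons, List.not_mem_nil, or_false] at hr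
    rcases hr with rfl | rfl | rfl | rfl | rfl <;> simp [ty] <;> omega
  have hd := fun L w e => dot_coords' (vs := [A, B, C, U, W]) (m := 6) (by decide) (L := L)
    (w := w) hM e
  have vA : ∀ χ : IrrCharacter G, χ.1 (φ (1, 0)) = dot [1, 1, -2, 0, 0] (ty (coords _ v4M 6) χ) :=
    fun χ => by rw [hd _ [1, 0, 0, 0, 0] (by decide), hA]; simp [ty]
  have vB : ∀ χ : IrrCharacter G, χ.1 (φ (0, 1)) = dot [-2, -2, -2, 3, 3] (ty (coords _ v4M 6) χ) :=
    fun χ => by rw [hd _ [0, 1, 0, 0, 0] (by decide), hB]; simp [ty]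
  have vC : ∀ χ : IrrCharacter G, χ.1 (φ (1, 1)) = dot [1, 1, 1, 0, 0] (ty (coords _ v4M 6) χ) :=
    fun χ => by rw [hd _ [0, 0, 1, 0, 0] (by decide), hC]; simp [ty]
  have vU : ∀ χ : IrrCharacter G, χ.1 u = dot [1, -1, 0, 0, 0] (ty (coords _ v4M 6) χ) :=
    fun χ => by rw [hd _ [0, 0, 0, 1, 0] (by decide), hU]; simp [ty]
  have vW : ∀ χ : IrrCharacter G, χ.1 w = dot [0, 0, 0, 1, -1] (ty (coords _ v4M 6) χ) :=
    fun χ => by rw [hd _ [0, 0, 0, 0, 1] (by decide), hW]; simp [ty]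
  obtain ⟨sol, hsol, X, s, d, -, -, d0, -, -, -, h1, h2⟩ := exists_degrees
    (coords [A, B, C, U, W] v4M 6) v4_check (by
      rw [gram_coords (ds := [18, 18, 9, 6, 6]) (by decide) (h.pairwise hv (by decide)) (by
        simp only [List.map_cons, List.map_nil, sA, sB, sC, sU, sW]; decide) hM]
      decide) (by rw [ty_coords]; simp only [ty, List.map_cons, List.map_nil, A1, B1, C1, U1, W1]; decide)
    fun χ => (h.dich χ).imp (fun c => coords_zero (h.vanish_all hv (by decide) c))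
      fun c _ => nz_of fun L hL => by
      simp only [v4L, List.mem_cons, List.not_mem_nil, or_false] at hL
      rcases hL with rfl | rfl | rfl
      · exact fun e => c _ (by rw [vA, e]; simp)
      · exact fun e => c _ (by rw [vB, e]; simp)
      · exact fun e => c _ (by rw [vC, e]; simp)
  obtain rfl := List.mem_singleton.1 hsol
  have r1 := h1 _ _ (h.ne_one (by decide)) vA
  have r2 := h1 _ _ (h.ne_one (by decide)) vB
  have r3 := h1 _ _ (h.ne_one (by decide)) vC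
  have r4 := h1 _ _ u1 vU
  have r5 := h1 _ _ w1 vW
  have t1 := h2 _ _ _ _ _ _ vA vA vB
  have t2 := h2 _ _ _ _ _ _ vA vA vC
  have t3 := h2 _ _ _ _ _ _ vB vB vA
  have t4 := h2 _ _ _ _ _ _ vB vB vC
  have t5 := h2 _ _ _ _ _ _ vA vB vC
  rw [h.pairs h.tri _ _ _ (by decide)] at t1 t2 t3 t4 t5
  rw [show #(univ.filter _) = 0 by decide] at t1 t2 t3 t4
  rw [show _ * #(univ.filter _) = 324 by decide] at t5
  simp [v4S, sum_range_succ, Nat.card_pos.ne'] at r1 r2 r3 r4 r5 t1 t2 t3 t4 t5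
  have q0 : ∀ i, (d i : ℚ) ≠ 0 := fun i => Int.cast_ne_zero.2 (d0 i)
  have a1 : d 5 = d 6 := by
    exact_mod_cast eq_of_harm (q0 5) (q0 6) (q0 7) (by exact_mod_cast (by omega)) (by
      linear_combination (t2 - t1) / 3)
  have a2 : d 1 = d 4 := by
    exact_mod_cast eq_of_harm (q0 1) (q0 4) (q0 7) (by exact_mod_cast (by omega)) (by
      linear_combination (t4 - t3) / 3)
  have a3 : d 0 = 1 := by
    have := eq_of_harm (q0 0) one_ne_zero (q0 1) (by exact_mod_cast (by omega)) (by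
      rw [show d 2 = d 0 by omega, show d 3 = 1 by omega, ← a2] at t1 t2
      push_cast at t1 t2
      linear_combination (t1 + 2 * t2) / 6)
    exact_mod_cast this
  rw [a3, show d 1 = -2 by omega, show d 2 = 1 by omega, show d 3 = 1 by omega,
    show d 4 = -2 by omega, show d 5 = -2 by omega, show d 6 = -2 by omega,
    show d 7 = 4 by omega] at t5
  have : (Nat.card G : ℚ) = 36 := by push_cast at t5; linarith
  exact_mod_cast this

theorem SMod.of_card {e : ι → K → K} {E : Finset ι} {φ : K → G} {S : Sylow 3 G}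
    (hC : centralizer ((S : Subgroup G) : Set G) ≤ S)
    (hc : ∀ t ∈ (S : Subgroup G), t ≠ 1 →
      centralizer ({t} : Set G) ≤ normalizer ((S : Subgroup G) : Set G))
    (add : ∀ x y, φ (x + y) = φ x * φ y) (inj : Function.Injective φ)
    (three : ∀ x : K, x + x + x = 0) (mem : ∀ g, g ∈ (S : Subgroup G) ↔ ∃ k, φ k = g)
    (hN : Nat.card (normalizer ((S : Subgroup G) : Set G)) = #E * Fintype.card K)
    (real : ∀ i ∈ E, ∃ n, ∀ x, n * φ x * n⁻¹ = φ (e i x))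
    (faith : ∀ i ∈ E, ∀ j ∈ E, (∀ x, e i x = e j x) → i = j) : SMod e E φ := by
  refine .of_sylow hC hc add inj three mem (fun g hg => ?_) real faith
  choose! n hn using real
  have cm : ∀ {i}, i ∈ E → ∀ y x, n i * φ y * φ x * (n i * φ y)⁻¹ = φ (e i x) := fun hi y x => by
    rw [mul_assoc (n _), ← add, add_comm, add, ← hn _ hi]; group
  obtain ⟨⟨i, y⟩, c⟩ := ((Nat.bijective_iff_injective_and_card (fun z : E × K =>
    (⟨n z.1 * φ z.2, mem_normalizer_fintype fun x hx => by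
      obtain ⟨x, rfl⟩ := (mem x).1 hx
      exact (mem _).2 ⟨_, (cm z.1.2 _ _).symm⟩⟩ : normalizer ((S : Subgroup G) : Set G)))).2
      ⟨fun x y c => by
        have c : n x.1 * φ x.2 = n y.1 * φ y.2 := congrArg Subtype.val c
        have : x.1 = y.1 := Subtype.ext (faith _ x.1.2 _ y.1.2
          fun z => inj (by rw [← cm x.1.2 x.2, c, cm y.1.2]))
        rw [this] at c
        exact Prod.ext this (inj (mul_left_cancel c)), by
          rw [Nat.card_prod, Nat.card_eq_fintype_card, Nat.card_eq_fintype_card, Fintype.card_coe]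
          exact hN.symm⟩).2 ⟨g, hg⟩
  obtain rfl : n i * φ y = g := congrArg Subtype.val c
  exact ⟨i, i.2, cm i.2 y⟩

theorem two_inj : ∀ i j : ZMod 3, i + i = j + j → i = j := by decide

/-- Coordinates adapted to a reflection. -/
theorem exists_coord {T : Subgroup G} (hT : IsElementaryAbelian 3 T) (h9 : Nat.card T = 9) {s : G}
    (hs : s ∈ normalizer (T : Set G)) (h2 : s * s ∈ T) (h3 : ∃ u ∈ T, s * u * s⁻¹ ≠ u)
    (h4 : ∃ u ∈ T, s * u * s⁻¹ ≠ u⁻¹) : ∃ φ : K2 → G, (∀ x y, φ (x + y) = φ x * φ y) ∧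
      Function.Injective φ ∧ (∀ g, g ∈ T ↔ ∃ k, φ k = g) ∧
      ∀ x, s * φ x * s⁻¹ = φ (e4 (1, -1) x) := by
  have := Fact.mk Nat.prime_three
  have := hT.1
  have cm : ∀ {a b : G}, a ∈ T → b ∈ T → a * b = b * a := fun ha hb => setLike_mul_comm ha hb
  have cj : ∀ {a : G}, a ∈ T → s * a * s⁻¹ ∈ T := fun ha => (mem_normalizer_iff.1 hs _).1 ha
  have ss : ∀ {a : G}, a ∈ T → s * (s * a * s⁻¹) * s⁻¹ = a := fun {a} ha => by
    rw [show s * (s * a * s⁻¹) * s⁻¹ = s * s * a * (s * s)⁻¹ by group, cm h2 ha]; group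
  obtain ⟨v, hv, v1⟩ := h3
  obtain ⟨u, hu, u1⟩ := h4
  obtain ⟨a, ha, a3, sa⟩ : ∃ a ∈ T, orderOf a = 3 ∧ s * a * s⁻¹ = a :=
    ⟨_, mul_mem (cj hu) hu, orderOf_eq_prime (hT.2 _ (mul_mem (cj hu) hu))
      fun c => u1 (eq_inv_of_mul_eq_one_left c), by rw [← conj_mul, ss hu, cm hu (cj hu)]⟩
  obtain ⟨b, hb, b3, sb⟩ : ∃ b ∈ T, orderOf b = 3 ∧ s * b * s⁻¹ = b⁻¹ :=
    ⟨_, mul_mem (cj hv) (inv_mem hv), orderOf_eq_prime (hT.2 _ (mul_mem (cj hv) (inv_mem hv)))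
      fun c => v1 (mul_inv_eq_one.1 c), by rw [← conj_mul, ss hv]; group⟩
  have xa : ∀ i : ZMod 3, xp a i ∈ T := fun i => zpowers_le.2 ha (xp_mem a i)
  have xb : ∀ i : ZMod 3, xp b i ∈ T := fun i => zpowers_le.2 hb (xp_mem b i)
  have add : ∀ x y : K2, xp a (x + y).1 * xp b (x + y).2 =
      xp a x.1 * xp b x.2 * (xp a y.1 * xp b y.2) := fun x y => by
    rw [Prod.fst_add, Prod.snd_add, xp_add a3, xp_add b3, mul_assoc, mul_assoc, ← mul_assoc (xp a y.1),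
      cm (xa _) (xb _), mul_assoc]
  have act : ∀ x : K2, s * (xp a x.1 * xp b x.2) * s⁻¹ = xp a x.1 * xp b (-x.2) := fun x => by
    rw [← conj_mul, conj_xp, conj_xp, sa, sb, ← xp_one b3, ← xp_neg b3, xp_xp b3, xp_one b3,
      neg_one_mul]
  have inj : Function.Injective fun x : K2 => xp a x.1 * xp b x.2 := fun x y c => by
    have c : xp a x.1 * xp b x.2 = xp a y.1 * xp b y.2 := c
    have c' := act x
    rw [c, act y] at c'
    have e : xp b (x.2 + x.2) = xp b (y.2 + y.2) := by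
      rw [xp_add b3, xp_add b3]
      calc _ = (xp a x.1 * xp b (-x.2))⁻¹ * (xp a x.1 * xp b x.2) := by rw [xp_neg b3]; group
        _ = _ := by rw [c, ← c', xp_neg b3]; group
    have e2 : x.2 = y.2 := two_inj _ _
      (xp_injective b3 e)
    rw [e2] at c
    exact Prod.ext (xp_injective a3 (mul_right_cancel c)) e2
  refine ⟨_, add, inj, fun g => ⟨fun hg => ?_, by rintro ⟨k, rfl⟩; exact mul_mem (xa _) (xb _)⟩,
    fun x => by simpa [e4] using act x⟩
  obtain ⟨k, c⟩ := ((Nat.bijective_iff_injective_and_card (fun x : K2 =>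
    (⟨_, mul_mem (xa x.1) (xb x.2)⟩ : T))).2 ⟨fun x y c => inj (congrArg Subtype.val c),
      by simp [h9]⟩).2 ⟨g, hg⟩
  exact ⟨k, congrArg Subtype.val c⟩

def eM (i : K2 × K2) (x : K2) : K2 := x.1 • i.1 + x.2 • i.2

theorem exists_lin {T : Subgroup G} {φ : K2 → G} (add : ∀ x y, φ (x + y) = φ x * φ y)
    (mem : ∀ g, g ∈ T ↔ ∃ k, φ k = g) {n : G} (hn : n ∈ normalizer (T : Set G)) :
    ∃ i, ∀ x, n * φ x * n⁻¹ = φ (eM i x) := by
  have k : ∀ x, ∃ y, φ y = n * φ x * n⁻¹ := fun x =>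
    (mem _).1 ((mem_normalizer_iff.1 hn _).1 ((mem _).2 ⟨x, rfl⟩))
  obtain ⟨u, hu⟩ := k (1, 0)
  obtain ⟨v, hv⟩ := k (0, 1)
  have z : φ 0 = 1 := by simpa using add 0 0
  have sm : ∀ (j : ZMod 3) (x y : K2), φ y = n * φ x * n⁻¹ → φ (j • y) = n * φ (j • x) * n⁻¹ :=
    fun j x y c => by
      obtain rfl | rfl | rfl : j = 0 ∨ j = 1 ∨ j = 1 + 1 := by revert j; decide
      · simp [z]
      · simpa using c
      · rw [add_smul, add_smul, one_smul, one_smul, add, add, c, conj_mul]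
  refine ⟨(u, v), fun x => ?_⟩
  rw [eM, add, sm _ _ _ hu, sm _ _ _ hv, conj_mul, ← add]
  simp

set_option synthInstance.maxSize 2000 in
theorem v4_cases : ∀ i : K2 × K2, (∀ x, eM i (eM i x) = x) →
    (∀ x, e4 (1, -1) (eM i (e4 (1, -1) (eM i x))) = x) → (¬ ∀ x, eM i x = x) →
    (¬ ∀ x, eM i x = e4 (1, -1) x) → (∀ x, eM i x = e4 (-1, 1) x) ∨
      ∀ x, eM i x = e4 (-1, -1) x := by decide +kernel

theorem normal_v4 (T : Sylow 3 G) (hT : IsElementaryAbelian 3 (T : Subgroup G))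
    (hcard : Nat.card T = 9) (hC : centralizer ((T : Subgroup G) : Set G) = T)
    [hn : ((T : Subgroup G).subgroupOf (normalizer ((T : Subgroup G) : Set G))).Normal]
    (hK : IsKleinFour (↥(normalizer ((T : Subgroup G) : Set G)) ⧸
      (T : Subgroup G).subgroupOf (normalizer ((T : Subgroup G) : Set G))))
    (hloc : ∀ t ∈ (T : Subgroup G), t ≠ 1 →
      centralizer ({t} : Set G) ≤ normalizer ((T : Subgroup G) : Set G)) :
    normalizer ((T : Subgroup G) : Set G) = ⊤ := by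
  set N := normalizer ((T : Subgroup G) : Set G) with hN
  have c1 : ∀ g : G, (∀ u ∈ (T : Subgroup G), g * u * g⁻¹ = u) → g ∈ (T : Subgroup G) :=
    fun g hg => hC.le fun u hu => (mul_inv_eq_iff_eq_mul.1 (hg u hu)).symm
  have sq : ∀ g ∈ N, g * g ∈ (T : Subgroup G) := fun g hg =>
    (QuotientGroup.eq_one_iff (N := (T : Subgroup G).subgroupOf N) (⟨g, hg⟩ * ⟨g, hg⟩ : N)).1
      (by rw [QuotientGroup.mk_mul]; exact IsKleinFour.mul_self _)
  obtain ⟨s, hs, t, ht, s1, t1, st, s2⟩ : ∃ s ∈ N, ∃ t ∈ N, s ∉ (T : Subgroup G) ∧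
      t ∉ (T : Subgroup G) ∧ s⁻¹ * t ∉ (T : Subgroup G) ∧ ∃ u ∈ (T : Subgroup G),
      s * u * s⁻¹ ≠ u⁻¹ := by
    classical
    have := Fintype.ofFinite (N ⧸ (T : Subgroup G).subgroupOf N)
    obtain ⟨x, y, hx, hy, xy⟩ : ∃ x y : N ⧸ (T : Subgroup G).subgroupOf N, x ≠ 1 ∧ y ≠ 1 ∧ x ≠ y := by
      obtain ⟨x, hx, y, hy, xy⟩ := one_lt_card.1 (show 1 < #(univ.erase (1 : N ⧸
        (T : Subgroup G).subgroupOf N)) by
          rw [card_erase_of_mem (mem_univ _), card_univ, IsKleinFour.card_four']; omega)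
      exact ⟨x, y, ne_of_mem_erase hx, ne_of_mem_erase hy, xy⟩
    obtain ⟨s, rfl⟩ := QuotientGroup.mk_surjective x
    obtain ⟨t, rfl⟩ := QuotientGroup.mk_surjective y
    rw [Ne, QuotientGroup.eq_one_iff] at hx hy
    rw [Ne, QuotientGroup.eq] at xy
    by_cases c : ∀ u ∈ (T : Subgroup G), (s : G) * u * (s : G)⁻¹ = u⁻¹
    · refine ⟨t, t.2, s, s.2, hy, hx, fun e => xy (mem_subgroupOf.2 (by simpa using inv_mem e)), ?_⟩
      by_contra! c'
      refine xy (mem_subgroupOf.2 (c1 _ fun u hu => ?_))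
      rw [show ((s⁻¹ * t : N) : G) * u * ((s⁻¹ * t : N) : G)⁻¹ =
        (s : G)⁻¹ * (t * u * (t : G)⁻¹) * s by push_cast; group, c' u hu, ← c u hu]
      group
    · push Not at c
      exact ⟨s, s.2, t, t.2, hx, hy, xy, c⟩
  obtain ⟨φ, add, inj, mem, hσ⟩ := exists_coord hT hcard hs (sq s hs)
    (by by_contra! c; exact s1 (c1 s c)) s2
  have c2 : ∀ g : G, (∀ x, g * φ x * g⁻¹ = φ x) → g ∈ (T : Subgroup G) := fun g hg =>
    c1 g fun u hu => by obtain ⟨x, rfl⟩ := (mem u).1 hu; exact hg x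
  have c3 : ∀ g ∈ (T : Subgroup G), ∀ x, g * φ x * g⁻¹ = φ x := fun g hg x => by
    obtain ⟨y, rfl⟩ := (mem g).1 hg
    rw [← add, add_comm, add, mul_inv_cancel_right]
  obtain ⟨i, hi⟩ := exists_lin add mem ht
  have k : (∀ x, eM i x = e4 (-1, 1) x) ∨ ∀ x, eM i x = e4 (-1, -1) x :=
    v4_cases i (fun x => inj (by rw [← hi, ← hi]; exact .trans (by group) (c3 _ (sq t ht) x)))
      (fun x => inj (by
        rw [← hσ, ← hi, ← hσ, ← hi]; exact .trans (by group) (c3 _ (sq _ (mul_mem hs ht)) x)))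
      (fun c => t1 (c2 t fun x => by rw [hi, c])) fun c => st (c2 _ fun x => by
        rw [show s⁻¹ * t * φ x * (s⁻¹ * t)⁻¹ = s⁻¹ * (t * φ x * t⁻¹) * s by group, hi, c, ← hσ]
        group)
  have hst : ∀ x, s * t * φ x * (s * t)⁻¹ = φ (e4 (1, -1) (eM i x)) := fun x => by
    rw [← hσ, ← hi]; group
  have h : SMod e4 E4 φ := .of_card hC.le hloc add inj (by decide) mem (by
    rw [← card_mul_index ((T : Subgroup G).subgroupOf N), Nat.card_congr
      (subgroupOfEquivOfLe le_normalizer).toEquiv, index_eq_card, hK.card_four]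
    exact (congrArg (· * 4) hcard).trans (by decide)) (fun j hj => by
      simp only [E4, mem_insert, mem_singleton] at hj
      rcases hj with rfl | rfl | rfl | rfl
      · exact ⟨1, fun x => by simp [e4]⟩
      · exact ⟨s, hσ⟩
      · rcases k with k | k
        · exact ⟨t, fun x => by rw [hi, k]⟩
        · exact ⟨s * t, fun x => by rw [hst, k]; simp [e4]⟩
      · rcases k with k | k
        · exact ⟨s * t, fun x => by rw [hst, k]; simp [e4]⟩
        · exact ⟨t, fun x => by rw [hi, k]⟩) (by decide)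
  exact h.normalizer_eq_top ((card_v4 h).trans (by decide)) mem

end Cfsg.Agent.Hig
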